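import Groth.Agent.Lib.EtMod.SubFam.Extend
import Groth.Agent.Lib.AlgSpEDS.OpenInduction
import Groth.Agent.Lib.AlgSpDecent.Core

/-!
# Extending finitely generated families of submodules over a quasi-compact quasi-separated space
-/

universe u

set_option backward.isDefEq.respectTransparency false
set_option linter.style.haveILetI false

open CategoryTheory CategoryTheory.Limits AlgebraicGeometry Opposite AlgSp
open Groth.Agent.Lib.AlgSpStalk.Lifts Groth.Agent.Lib.AlgSpStalk.Point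
open Groth.Agent.Lib.AlgSpEDS.OpenInduction (Step)

namespace Groth.Agent.Lib.EtMod.SubFam

variable {S : Scheme.{u}} [QuasiSeparatedSpace ↥S] {X : AlgSp.Space S}

/-- The data of one step of the induction. -/
theorem exists_stepData (hXs : IsQuasiSeparatedSp X.obj) {W₁ W₂ V : AlgSp.Space S} {j₁ : W₁ ⟶ X} {j₂ : W₂ ⟶ X}
    {k : W₁ ⟶ W₂} {f : V ⟶ W₂} (hj₁ : RepWith @IsOpenImmersion j₁.hom) (hj₂ : RepWith @IsOpenImmersion j₂.hom)
    (hk : k ≫ j₂ = j₁) (hW₁ : IsQuasiCompactSp W₁.obj)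
    (hV : ∃ T : Over S, IsAffine T.left ∧ Nonempty ((yon S).obj T ≅ V.obj))
    (hsq : IsElemDistSq k.hom f.hom) :
    ∃ (V₀ : EtOver X.obj) (_ : IsAffine V₀.obj.left.left),
      Set.range (Points.map j₂.hom) = Set.range (Points.map j₁.hom) ∪ Set.range (Points.ofPt V₀.obj.hom) ∧
      IsOpen (Set.range (Points.map j₁.hom)) ∧
      IsCompact {v : V₀.obj.left.left | Points.ofPt V₀.obj.hom v ∈ Set.range (Points.map j₁.hom)} ∧
      ∀ {E : EtOver X.obj} [IsAffine E.obj.left.left] (a b : E ⟶ V₀) (w : E.obj.left.left),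
        Points.ofPt E.obj.hom w ∉ Set.range (Points.map j₁.hom) →
          ∃ (W : EtOver X.obj) (j : W ⟶ E), w ∈ Set.range j.hom.left.left ∧ j ≫ a = j ≫ b := by
  obtain ⟨T, hT, ⟨e⟩⟩ := hV
  haveI := hT
  haveI : MorphismProperty.IsStableUnderComposition (@Etale : MorphismProperty Scheme.{u}) :=
    ⟨fun f g (_ : Etale f) (_ : Etale g) ↦ inferInstanceAs (Etale (f ≫ g))⟩
  have hq : RepWith @Etale ((e.hom ≫ f.hom) ≫ j₂.hom) :=
    Groth.Agent.Lib.AlgSpace.repWith_comp (hsq.2.1 e.hom (Groth.Agent.Lib.AlgSpace.repWith_of_isIso _ _))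
      (Groth.Agent.H8.EDSInduction.repWith_etale_of_openImm hj₂)
  let V₀ : EtOver X.obj := EtOver.mk ((e.hom ≫ f.hom) ≫ j₂.hom) hq
  haveI hV₀ : IsAffine V₀.obj.left.left := hT
  have hk' : k.hom ≫ j₂.hom = j₁.hom := congrArg (fun m => m.hom) hk
  haveI : Mono j₂.hom := Groth.Agent.H8.EDSInduction.mono_openImm hj₂
  have hopen : IsOpen (Set.range (Points.map j₁.hom)) :=
    (Groth.Agent.Lib.AlgSpace.isOpenEmbedding_map hj₁).isOpen_range
  refine ⟨V₀, hV₀, ?_, hopen, ?_, fun {E} _ a b w hw => ?_⟩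
  · apply Set.Subset.antisymm
    · rintro _ ⟨z, rfl⟩
      rcases Groth.Agent.Lib.AlgSpEDS.mem_range_or hsq z with ⟨u, rfl⟩ | ⟨v, rfl⟩
      · exact Or.inl ⟨u, by rw [← hk', Points.map_comp]⟩
      · refine Or.inr ⟨Points.toScheme T (Points.map e.inv v), ?_⟩
        change Points.ofPt ((e.hom ≫ f.hom) ≫ j₂.hom) _ = _
        rw [Points.ofPt_eq_map_ofScheme, Points.ofScheme_toScheme, ← Points.map_comp, ← Category.assoc,
          e.inv_hom_id_assoc, Points.map_comp]
    · rintro _ (⟨u, rfl⟩ | ⟨v, rfl⟩)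
      · exact ⟨Points.map k.hom u, by rw [← Points.map_comp, hk']⟩
      · exact ⟨Points.ofPt (e.hom ≫ f.hom) v, Points.map_ofPt _ _ _⟩
  · obtain ⟨U₁, p₁, hp₁, hp₁s, hU₁⟩ := hW₁
    haveI := hU₁
    haveI : CompactSpace ↥V₀.obj.left.left := inferInstance
    obtain ⟨Q, q₁, q₂, sq⟩ := Groth.Agent.Lib.AlgSpace.exists_isPullback_yon X.property.diag
      (p₁ ≫ j₁.hom) V₀.obj.hom
    haveI : CompactSpace ↥Q.left := Groth.Agent.Lib.AlgSpMor.DiagCharts.compactSpace_of_isQuasiSeparatedSp hXs sq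
    have heq : {v : V₀.obj.left.left | Points.ofPt V₀.obj.hom v ∈ Set.range (Points.map j₁.hom)} =
        Set.range q₂.left := by
      ext v
      constructor
      · rintro ⟨z, hz⟩
        obtain ⟨u, rfl⟩ := Groth.Agent.Lib.AlgSpace.surjective_ofPt hp₁s z
        obtain ⟨x, -, hx⟩ := Groth.Agent.Lib.AlgSpDecent.Core.exists_point_of_scheme_isPullback sq u v (by
          rw [← Points.map_ofPt]; exact hz)
        exact ⟨x, hx⟩
      · rintro ⟨x, rfl⟩
        refine ⟨Points.ofPt p₁ (q₁.left x), ?_⟩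
        rw [Points.map_ofPt, ← Groth.Agent.Lib.AlgSpDecent.Core.ofPt_map_comp q₁, sq.w,
          Groth.Agent.Lib.AlgSpDecent.Core.ofPt_map_comp]
    rw [heq]
    exact _root_.isCompact_range q₂.left.continuous
  · obtain ⟨p, l, hp, hl, hlw⟩ := exists_geometric_over E.obj.hom w
    let L : (FieldPt.liftsTo p).obj E := ⟨l, hl⟩
    have hab : (yon S).map (l ≫ a.hom.left) ≫ e.hom ≫ f.hom = (yon S).map (l ≫ b.hom.left) ≫ e.hom ≫ f.hom := by
      refine (cancel_mono j₂.hom).1 ?_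
      simp only [Category.assoc]
      exact (((FieldPt.liftsTo p).map a L).2.trans ((FieldPt.liftsTo p).map b L).2.symm : _)
    obtain ⟨Z, g, u, hcov, htrue, hu⟩ := Groth.Agent.Lib.AlgSpEDS.exists_cover_of_eq V.property W₂.property hsq
      ((yon S).map (l ≫ a.hom.left) ≫ e.hom) ((yon S).map (l ≫ b.hom.left) ≫ e.hom)
      (by simpa only [Category.assoc] using hab)
    haveI : IsEmpty ↥(Z false).left := ⟨fun z => hw ⟨Points.ofPt u z, by
      rw [← hk', Points.map_comp, Points.map_ofPt, Points.map_ofPt, hu]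
      simp only [← Category.assoc, ← Functor.map_comp]
      rw [Category.assoc, Category.assoc]
      have e2 : (yon S).map ((g false ≫ l) ≫ a.hom.left) ≫ (e.hom ≫ f.hom) ≫ j₂.hom =
          (yon S).map (g false ≫ l) ≫ E.obj.hom := by
        rw [Functor.map_comp, Category.assoc]
        exact congrArg _ (EtOver.w a)
      simp only [Category.assoc] at e2 ⊢
      rw [e2, Groth.Agent.Lib.AlgSpDecent.Core.ofPt_map_comp, Over.comp_left, Scheme.Hom.comp_apply]
      refine congrArg _ (Eq.trans ?_ hlw)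
      exact congrArg l.left (@Subsingleton.elim (↥(Spec (CommRingCat.of p.K))) inferInstance _ _)⟩⟩
    have hxy : (yon S).map (l ≫ a.hom.left) = (yon S).map (l ≫ b.hom.left) := by
      refine (cancel_mono e.hom).1 (Groth.Agent.Lib.AlgSpace.hom_ext_of_family Z g hcov ?_)
      rintro (_ | _)
      · exact (Groth.Agent.Lib.AlgSpace.subsingleton_yon_hom_of_isEmpty _ _).elim _ _
      · exact htrue
    have hL : (FieldPt.liftsTo p).map a L = (FieldPt.liftsTo p).map b L :=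
      Subtype.ext ((yon S).map_injective hxy)
    haveI : IsCofiltered (FieldPt.liftsTo p).Elements := (etPoint X.property p hp).isCofiltered
    let oE : (FieldPt.liftsTo p).Elements := ⟨E, L⟩
    let oV : (FieldPt.liftsTo p).Elements := ⟨V₀, (FieldPt.liftsTo p).map a L⟩
    let φa : oE ⟶ oV := ⟨a, rfl⟩
    let φb : oE ⟶ oV := ⟨b, hL.symm⟩
    have hc := IsCofiltered.eq_condition (C := (FieldPt.liftsTo p).Elements) φa φb
    refine ⟨(IsCofiltered.eq φa φb).1, (IsCofiltered.eqHom φa φb).1,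
      ⟨(IsCofiltered.eq φa φb).2.1.left (pt₀ p), ?_⟩, congrArg Subtype.val hc⟩
    rw [lift_pt p _ _ _ (IsCofiltered.eqHom φa φb).2]
    exact hlw

variable {M : ModEt X.obj}

/-- Families over a quasi-compact open subspace extend to the whole space. -/
theorem exists_extension (hXc : IsQuasiCompactSp X.obj) (hXs : IsQuasiSeparatedSp X.obj) (hM : IsCart M)
    (A : Amb M) {W : AlgSp.Space S} (jW : W ⟶ X) (hjW : RepWith @IsOpenImmersion jW.hom)
    (hWc : IsQuasiCompactSp W.obj) (N : SubOn A (Set.range (Points.map jW.hom))) :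
    ∃ N' : SubOn A Set.univ, ∀ (E : EtOver X.obj) [IsAffine E.obj.left.left],
      Set.range (Points.ofPt E.obj.hom) ⊆ Set.range (Points.map jW.hom) → N'.N E = N.N E := by
  have huniv : Set.range (Points.map (𝟙 X : X ⟶ X).hom) = Set.univ :=
    Set.range_eq_univ.2 fun x => ⟨x, Points.map_id _⟩
  have := Groth.Agent.Lib.AlgSpEDS.OpenInduction.main (P := fun U j =>
    ∃ N' : SubOn A (Set.range (Points.map j.hom)), ∀ (E : EtOver X.obj) [IsAffine E.obj.left.left],
      Set.range (Points.ofPt E.obj.hom) ⊆ Set.range (Points.map jW.hom) → N'.N E = N.N E)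
    hXc hXs hjW hWc ⟨N, fun _ _ _ => rfl⟩
    (fun W₁ W₂ V j₁ j₂ k m f hj₁ hj₂ hk hm hW₁ _ hV hsq ⟨N₁, hN₁⟩ => by
      obtain ⟨V₀, hV₀, hu, ho, hc, hloc⟩ := exists_stepData hXs hj₁ hj₂ hk hW₁ hV hsq
      obtain ⟨N₂, hN₂, -⟩ := exists_step hM ho N₁ V₀ hc hloc ⊥ Submodule.fg_bot bot_le
        fun D _ a _ => (pushSub_le_iff a).2 fun s hs => by
          rw [(Submodule.mem_bot _).1 hs, map_zero]; exact Submodule.zero_mem _
      rw [hu]
      refine ⟨N₂, fun E _ hE => (hN₂ E (hE.trans ?_)).trans (hN₁ E hE)⟩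
      rintro _ ⟨w, rfl⟩
      exact ⟨Points.map m.hom w, by rw [← Points.map_comp]; exact congrArg (fun q => Points.map q w) (congrArg (fun m => m.hom) hm)⟩)
  rwa [huniv] at this

omit [QuasiSeparatedSpace ↥S] in
theorem exists_request_step (hM : IsCart M) {O : Set (Points X.obj)} (hO : IsOpen O) (V₀ : EtOver X.obj)
    [IsAffine V₀.obj.left.left] (hc : IsCompact {v : V₀.obj.left.left | Points.ofPt V₀.obj.hom v ∈ O})
    (hloc : ∀ {E : EtOver X.obj} [IsAffine E.obj.left.left] (a b : E ⟶ V₀) (w : E.obj.left.left),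
      Points.ofPt E.obj.hom w ∉ O →
        ∃ (W : EtOver X.obj) (j : W ⟶ E), w ∈ Set.range j.hom.left.left ∧ j ≫ a = j ≫ b)
    (ih : ∀ (ι : Type (u + 1)) [Finite ι] (E : ι → EtOver X.obj) (_ : ∀ i, IsAffine (E i).obj.left.left)
      (s : ∀ i, sectModEt M (E i)), (∀ i, Set.range (Points.ofPt (E i).obj.hom) ⊆ O) →
      ∃ N : SubOn (Amb.top M) O, ∀ i, s i ∈ N.N (E i))
    (ι : Type (u + 1)) [Finite ι] (E : ι → EtOver X.obj) (hE : ∀ i, IsAffine (E i).obj.left.left)
    (s : ∀ i, sectModEt M (E i))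
    (hr : ∀ i, Set.range (Points.ofPt (E i).obj.hom) ⊆ O ∪ Set.range (Points.ofPt V₀.obj.hom)) :
    ∃ N : SubOn (Amb.top M) (O ∪ Set.range (Points.ofPt V₀.obj.hom)), ∀ i, s i ∈ N.N (E i) := by
  classical
  haveI := hE
  have hC : ∀ i, ∃ C : AffCover (E i), ∀ k,
      Set.range (Points.ofPt (C.V k).obj.hom) ⊆ O ∨ Nonempty (C.V k ⟶ V₀) := fun i =>
    exists_good_cover (fun V _ => Set.range (Points.ofPt V.obj.hom) ⊆ O ∨ Nonempty (V ⟶ V₀))
      (fun g _ h => h.imp (range_subset_of_hom g) fun ⟨a⟩ => ⟨g ≫ a⟩) fun x => by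
      by_cases hx : Points.ofPt (E i).obj.hom x ∈ O
      · obtain ⟨O₁, hO₁, hwO, hle⟩ := exists_isAffineOpen_mem_and_subset
          (X := (E i).obj.left.left) (U := ⟨_, hO.preimage (Points.continuous_ofPt (E i).obj.hom)⟩) hx
        let O' : (E i).obj.left.left.Etale := MorphismProperty.Over.mk ⊤ O₁.ι (show Etale _ from inferInstance)
        let j : (EtOver.ofChart (E i).obj.hom (E i).property).obj O' ⟶ E i := EtOver.homMk (EtOver.homOfEtale O') rfl
        refine ⟨_, j, Or.inl ?_, ⟨⟨x, hwO⟩, rfl⟩⟩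
        rintro _ ⟨z, rfl⟩
        rw [← ofPt_comp_left j z]
        exact hle z.2
      · obtain ⟨v, hv⟩ := (hr i ⟨x, rfl⟩).resolve_left hx
        obtain ⟨W, hW, a, b, w, ha, -⟩ := exists_common_chart hv.symm
        exact ⟨W, a, Or.inr ⟨b⟩, w, ha⟩
  choose C hC using hC
  -- sections over `V₀` generating the restrictions of the requested ones
  have hlift : ∀ p : (Σ i, Fin (C i).n), ∃ F : Finset (sectModEt M V₀), ∀ b : (C p.1).V p.2 ⟶ V₀,
      ∃ a : (C p.1).V p.2 ⟶ V₀, res M ((C p.1).g p.2) (s p.1) ∈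
        Submodule.span (fn ((C p.1).V p.2)) (res M a '' (F : Set (sectModEt M V₀))) := fun p => by
    by_cases hne : Nonempty ((C p.1).V p.2 ⟶ V₀)
    · obtain ⟨a⟩ := hne
      obtain ⟨F', hF', hx⟩ := Submodule.mem_span_finite_of_mem_span
        (show res M ((C p.1).g p.2) (s p.1) ∈ Submodule.span (fn ((C p.1).V p.2)) (Set.range (res M a)) by
          rw [span_res_eq_top hM]; trivial)
      choose q hq using fun y : F' => hF' y.2
      refine ⟨Finset.univ.image q, fun _ => ⟨a, Submodule.span_mono (fun y hy => ?_) hx⟩⟩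
      exact ⟨q ⟨y, hy⟩, by simp, hq ⟨y, hy⟩⟩
    · exact ⟨∅, fun b => absurd ⟨b⟩ hne⟩
  choose F hF using hlift
  haveI : Finite (Σ i, Fin (C i).n) := inferInstance
  let G : Set (sectModEt M V₀) := ⋃ p : (Σ i, Fin (C i).n), (F p : Set (sectModEt M V₀))
  have hG : G.Finite := Set.finite_iUnion fun p => (F p).finite_toSet
  obtain ⟨T, hT, hTcov⟩ := exists_basic_cover hO V₀ hc
  -- the requests inside `O`
  let ι' : Type (u + 1) := {p : (Σ i, Fin (C i).n) // Set.range (Points.ofPt ((C p.1).V p.2).obj.hom) ⊆ O} ⊕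
    (↥T × ↥G)
  haveI : Finite ↥G := hG.to_subtype
  obtain ⟨N₁, hN₁⟩ := ih ι'
    (Sum.elim (fun p => (C p.1.1).V p.1.2) (fun q => basicObj V₀ q.1.1))
    (fun i => by cases i <;> simp only [Sum.elim_inl, Sum.elim_inr] <;> infer_instance)
    (fun i => match i with
      | .inl p => res M ((C p.1.1).g p.1.2) (s p.1.1)
      | .inr q => res M (basicHom V₀ q.1.1) q.2.1)
    (fun i => match i with
      | .inl p => p.2
      | .inr q => hT _ q.1.2)
  let S₀ := Submodule.span (fn V₀) G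
  obtain ⟨N₂, hN₂, hS₀⟩ := exists_step hM hO N₁ V₀ hc hloc S₀ (Submodule.fg_span hG) le_top fun D _ a hD => by
    rw [pushSub_span, Submodule.span_le]
    rintro _ ⟨g, hg, rfl⟩
    obtain ⟨C', hC'⟩ := exists_good_cover (E := D)
      (fun V b => ∃ t : T, ∃ c : V ⟶ basicObj V₀ t.1, c ≫ basicHom V₀ t.1 = b ≫ a)
      (fun g b ⟨t, c, hc⟩ => ⟨t, g ≫ c, by rw [Category.assoc, hc, Category.assoc]⟩) fun w => by
      obtain ⟨t, ht, hw⟩ := hTcov (a.hom.left.left w) (ofPt_comp_left a w ▸ hD ⟨w, rfl⟩)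
      exact ⟨_, EtOver.pullbackFst a (basicHom V₀ t), ⟨⟨t, ht⟩, EtOver.pullbackSnd _ _,
        (EtOver.pullback_condition a (basicHom V₀ t)).symm⟩, exists_pullbackFst_preimage _ _ hw⟩
    refine mem_of_local hM C' fun k => ?_
    obtain ⟨t, c, hc⟩ := hC' k
    rw [N₁.map_eq _ hD, ← res_comp_apply, ← hc, res_comp_apply, ← N₁.map_eq c (hT t t.2)]
    exact res_mem_pushSub c (hN₁ (Sum.inr ⟨t, ⟨g, hg⟩⟩))
  refine ⟨N₂, fun i => mem_of_local hM (C i) fun k => ?_⟩
  rw [N₂.map_eq _ (hr i)]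
  rcases hC i k with h | ⟨⟨b⟩⟩
  · rw [hN₂ _ h]
    exact hN₁ (Sum.inl ⟨⟨i, k⟩, h⟩)
  · obtain ⟨a, ha⟩ := hF ⟨i, k⟩ b
    rw [← N₂.map_eq a Set.subset_union_right]
    refine (Submodule.span_le.2 ?_) ha
    rintro _ ⟨g, hg, rfl⟩
    exact res_mem_pushSub a (hS₀ (Submodule.subset_span (Set.mem_iUnion.2 ⟨⟨i, k⟩, hg⟩)))

/-- Finitely many sections over affine objects lie in one finitely generated family. -/
theorem exists_family_mem (hXc : IsQuasiCompactSp X.obj) (hXs : IsQuasiSeparatedSp X.obj) (hM : IsCart M)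
    (ι : Type (u + 1)) [Finite ι] (E : ι → EtOver X.obj) (hE : ∀ i, IsAffine (E i).obj.left.left)
    (s : ∀ i, sectModEt M (E i)) :
    ∃ N : SubOn (Amb.top M) Set.univ, ∀ i, s i ∈ N.N (E i) := by
  obtain ⟨W₀, jW, hjW, hr⟩ := exists_open_subspace_of X (W := (∅ : Set (Points X.obj))) isOpen_empty
  have hWc : IsQuasiCompactSp W₀.obj := by
    refine Groth.Agent.H8.EDSInduction.isQuasiCompactSp_of_range W₀.property hjW ?_
    rw [hr]
    exact isCompact_empty
  have huniv : Set.range (Points.map (𝟙 X : X ⟶ X).hom) = Set.univ :=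
    Set.range_eq_univ.2 fun x => ⟨x, Points.map_id _⟩
  have := Groth.Agent.Lib.AlgSpEDS.OpenInduction.main (jW := jW) (P := fun U j =>
    ∀ (ι : Type (u + 1)) [Finite ι] (E : ι → EtOver X.obj) (_ : ∀ i, IsAffine (E i).obj.left.left)
      (s : ∀ i, sectModEt M (E i)),
      (∀ i, Set.range (Points.ofPt (E i).obj.hom) ⊆ Set.range (Points.map j.hom)) →
      ∃ N : SubOn (Amb.top M) (Set.range (Points.map j.hom)), ∀ i, s i ∈ N.N (E i))
    hXc hXs hjW hWc
    (by
      intro ι _ E hE s h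
      rw [hr] at h ⊢
      refine ⟨⟨fun _ => ⊥, fun g _ => le_bot_iff.1 ((pushSub_le_iff g).2 fun s hs => ?_),
        fun _ _ _ => Submodule.fg_bot, fun _ _ _ => bot_le⟩, fun i => ?_⟩
      · rw [(Submodule.mem_bot _).1 hs, map_zero]
        exact Submodule.zero_mem _
      · refine (Submodule.mem_bot _).2 (eq_of_cover (fun z : PEmpty.{1} => z.elim) (fun z => z.elim)
          (fun x => (h i ⟨x, rfl⟩).elim) fun z => z.elim))
    (fun W₁ W₂ V j₁ j₂ k m f hj₁ hj₂ hk hm hW₁ _ hV hsq hP => by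
      obtain ⟨V₀, hV₀, hu, ho, hc, hloc⟩ := exists_stepData hXs hj₁ hj₂ hk hW₁ hV hsq
      intro ι _ E hE s h
      rw [hu] at h ⊢
      exact exists_request_step hM ho V₀ hc hloc hP ι E hE s h)
  rw [huniv] at this
  exact this ι E hE s fun i => Set.subset_univ _

end Groth.Agent.Lib.EtMod.SubFam
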