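import Groth.Agent.Lib.EtMod.SubFam.Colim
import Groth.Agent.Lib.EtMod.Coherent

/-!
# Submodules of finite type of a quasi-coherent module
-/

universe u v

set_option backward.isDefEq.respectTransparency false
set_option linter.style.haveILetI false

open CategoryTheory CategoryTheory.Limits AlgebraicGeometry Opposite AlgSp

namespace Groth.Agent.Lib.EtMod.SubFam

variable {S : Scheme.{u}}

section

variable {X : Sp S} {M : ModEt X} {A : Amb M} {O : Set (Points X)}

/-- The sum of two families. -/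
noncomputable def SubOn.sup (N N' : SubOn A O) : SubOn A O where
  N E := N.N E ⊔ N'.N E
  map_eq g h := by rw [pushSub_sup, N.map_eq g h, N'.map_eq g h]
  fg E _ h := (N.fg E h).sup (N'.fg E h)
  le E _ h := sup_le (N.le E h) (N'.le E h)

theorem pushSub_bot {E V : EtOver X} (g : V ⟶ E) : pushSub g (⊥ : Submodule (fn E) (sectModEt M E)) = ⊥ :=
  le_bot_iff.1 ((pushSub_le_iff g).2 fun s hs => by
    rw [(Submodule.mem_bot _).1 hs, map_zero]; exact Submodule.zero_mem _)

/-- The zero family. -/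
noncomputable def SubOn.bot : SubOn A O where
  N _ := ⊥
  map_eq g _ := pushSub_bot g
  fg _ _ _ := Submodule.fg_bot
  le _ _ _ := bot_le

theorem finite_of_iso {G G' : ModEt X} (e : G ≅ G') (E : EtOver X)
    [h : Module.Finite (fn E) (sectModEt G E)] : Module.Finite (fn E) (sectModEt G' E) := by
  refine Module.Finite.of_surjective (secMap e.hom E) fun y => ⟨secMap e.inv E y, ?_⟩
  exact (secMap_comp e.inv e.hom E y).symm.trans (congrArg (fun ψ : G' ⟶ G' => secMap ψ E y) e.inv_hom_id)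

variable (hM : IsCart M)

include hM

omit hM in
theorem mem_range_congr {G : ModEt X} {a b : G ⟶ M} (e : a = b) {E : EtOver X} {m : sectModEt M E}
    (h : m ∈ Set.range (secMap b E)) : m ∈ Set.range (secMap a E) := e ▸ h

theorem qcoh_subobject (N : SubOn A Set.univ) :
    (Subobject.underlying.obj (Subobject.mk (incl N))).IsQuasicoherent ∧
      (Subobject.underlying.obj (Subobject.mk (incl N))).IsFiniteType := by
  let e : sheaf N ≅ Subobject.underlying.obj (Subobject.mk (incl N)) := (Subobject.underlyingIso (incl N)).symm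
  have hc := isQuasicoherent_congr e (isQuasicoherent_of_isCart (isCart_sheaf hM N))
  refine ⟨hc, ?_⟩
  refine isFiniteType_of_finite (isCart_of_isQuasicoherent _) fun E _ => ?_
  haveI := finite_sheaf hM N E
  exact finite_of_iso e E

theorem range_mk (N : SubOn A Set.univ) (E : EtOver X) [IsAffine E.obj.left.left] {s : sectModEt M E}
    (hs : s ∈ N.N E) : s ∈ Set.range (secMap (Subobject.mk (incl N)).arrow E) := by
  obtain ⟨y, rfl⟩ := (range_incl hM N E s).2 hs
  refine ⟨secMap (Subobject.underlyingIso (incl N)).inv E y, (secMap_comp _ _ E y).symm.trans ?_⟩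
  rw [Subobject.underlyingIso_arrow]

theorem exists_upper {G₁ G₂ : ModEt X} (a₁ : G₁ ⟶ M) (a₂ : G₂ ⟶ M) (h₁ : IsCart G₁) (h₂ : IsCart G₂)
    (f₁ : ∀ (E : EtOver X) [IsAffine E.obj.left.left], Module.Finite (fn E) (sectModEt G₁ E))
    (f₂ : ∀ (E : EtOver X) [IsAffine E.obj.left.left], Module.Finite (fn E) (sectModEt G₂ E)) :
    ∃ N : SubOn (Amb.top M) Set.univ, (∃ t : G₁ ⟶ sheaf N, t ≫ incl N = a₁) ∧ ∃ t : G₂ ⟶ sheaf N, t ≫ incl N = a₂ := by
  let N := (ofMono h₁ a₁ f₁).sup (ofMono h₂ a₂ f₂)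
  refine ⟨N, exists_factor a₁ (incl N) fun E _ x => ?_, exists_factor a₂ (incl N) fun E _ x => ?_⟩
  · exact (range_incl hM N E _).2 (Submodule.mem_sup_left ⟨x, rfl⟩)
  · exact (range_incl hM N E _).2 (Submodule.mem_sup_right ⟨x, rfl⟩)

theorem exists_upper_ft {G₁ G₂ : ModEt X} (a₁ : G₁ ⟶ M) (a₂ : G₂ ⟶ M) (h₁ : G₁.IsQuasicoherent)
    (h₂ : G₂.IsQuasicoherent) (f₁ : G₁.IsFiniteType) (f₂ : G₂.IsFiniteType) :
    ∃ N : SubOn (Amb.top M) Set.univ, (∃ t : G₁ ⟶ sheaf N, t ≫ incl N = a₁) ∧ ∃ t : G₂ ⟶ sheaf N, t ≫ incl N = a₂ :=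
  exists_upper hM a₁ a₂ (isCart_of_isQuasicoherent G₁) (isCart_of_isQuasicoherent G₂)
    (fun E _ => finite_of_isFiniteType (isCart_of_isQuasicoherent G₁) E)
    (fun E _ => finite_of_isFiniteType (isCart_of_isQuasicoherent G₂) E)

theorem exists_le_le (a b : Subobject M)
    (ha : (Subobject.underlying.obj a).IsQuasicoherent ∧ (Subobject.underlying.obj a).IsFiniteType)
    (hb : (Subobject.underlying.obj b).IsQuasicoherent ∧ (Subobject.underlying.obj b).IsFiniteType) :
    ∃ c : Subobject M, ((Subobject.underlying.obj c).IsQuasicoherent ∧ (Subobject.underlying.obj c).IsFiniteType) ∧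
      a ≤ c ∧ b ≤ c := by
  obtain ⟨N, ⟨t₁, h₁⟩, ⟨t₂, h₂⟩⟩ := exists_upper_ft hM a.arrow b.arrow ha.1 hb.1 ha.2 hb.2
  exact ⟨Subobject.mk (incl N), qcoh_subobject hM N, Subobject.le_mk_of_comm t₁ h₁,
    Subobject.le_mk_of_comm t₂ h₂⟩

theorem exists_upper_fp {G₁ G₂ : ModEt X} (a₁ : G₁ ⟶ M) (a₂ : G₂ ⟶ M) (f₁ : G₁.IsFinitePresentation)
    (f₂ : G₂.IsFinitePresentation) :
    ∃ N : SubOn (Amb.top M) Set.univ, (∃ t : G₁ ⟶ sheaf N, t ≫ incl N = a₁) ∧ ∃ t : G₂ ⟶ sheaf N, t ≫ incl N = a₂ :=
  exists_upper hM a₁ a₂ (isCart_of_isFinitePresentation (M := G₁)) (isCart_of_isFinitePresentation (M := G₂))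
    (fun E _ => finite_of_isFinitePresentation (M := G₁) E) (fun E _ => finite_of_isFinitePresentation (M := G₂) E)

end

variable [QuasiSeparatedSpace ↥S] (X : AlgSp.Space S)

theorem exists_family (hqc : IsQuasiCompactSp X.obj) (hqs : IsQuasiSeparatedSp X.obj) {M : ModEt X.obj}
    (hM : IsCart M) (E : EtOver X.obj) [hE : IsAffine E.obj.left.left] (m : sectModEt M E) :
    ∃ N : SubOn (Amb.top M) Set.univ, m ∈ N.N E := by
  obtain ⟨N, hN⟩ := exists_family_mem hqc hqs hM PUnit.{u + 2} (fun _ => E) (fun _ => hE) (fun _ => m)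
  exact ⟨N, hN ⟨⟩⟩

theorem exists_subobject_mem (hqc : IsQuasiCompactSp X.obj) (hqs : IsQuasiSeparatedSp X.obj) {M : ModEt X.obj}
    (hM : IsCart M) (E : EtOver X.obj) [IsAffine E.obj.left.left] (m : sectModEt M E) :
    ∃ c : Subobject M, ((Subobject.underlying.obj c).IsQuasicoherent ∧ (Subobject.underlying.obj c).IsFiniteType) ∧
      m ∈ Set.range (secMap c.arrow E) := by
  have h := exists_family X hqc hqs hM E m
  exact h.elim fun N hN => ⟨Subobject.mk (incl N), qcoh_subobject hM N, range_mk hM N E hN⟩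

/-- The submodules of finite type. -/
theorem isColimit_finiteType (hqc : IsQuasiCompactSp X.obj) (hqs : IsQuasiSeparatedSp X.obj)
    (M : ModEt X.obj) [M.IsQuasicoherent] (P : ObjectProperty (Subobject M))
    (hP : P = fun N => (Subobject.underlying.obj N).IsQuasicoherent ∧ (Subobject.underlying.obj N).IsFiniteType)
    (ι : P.ι ⋙ Subobject.underlying ⟶ (Functor.const P.FullSubcategory).obj M)
    (hι : ∀ N : P.FullSubcategory, ι.app N = N.obj.arrow) :
    IsFiltered P.FullSubcategory ∧ Nonempty (IsColimit (Cocone.mk M ι)) := by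
  subst hP
  have hM : IsCart M := isCart_of_isQuasicoherent M
  let P : ObjectProperty (Subobject M) := fun N =>
    (Subobject.underlying.obj N).IsQuasicoherent ∧ (Subobject.underlying.obj N).IsFiniteType
  have hne : Nonempty P.FullSubcategory := ⟨⟨_, qcoh_subobject hM (SubOn.bot (A := Amb.top M))⟩⟩
  haveI : IsFiltered P.FullSubcategory :=
    { nonempty := hne
      cocone_objs := fun a b => by
        obtain ⟨c, hc, hac, hbc⟩ := exists_le_le hM a.obj b.obj a.2 b.2
        exact ⟨⟨c, hc⟩, ObjectProperty.homMk (homOfLE hac), ObjectProperty.homMk (homOfLE hbc), trivial⟩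
      cocone_maps := fun a b f g => ⟨b, 𝟙 b, by
        rw [Category.comp_id, Category.comp_id]; exact ObjectProperty.hom_ext _ (Subsingleton.elim _ _)⟩ }
  refine ⟨‹_›, isColimit_of_monos _ ι (fun j => by rw [hι]; exact (inferInstance : Mono j.obj.arrow)) fun E _ m => ?_⟩
  exact (exists_subobject_mem X hqc hqs hM E m).elim fun c hc => ⟨⟨c, hc.1⟩, mem_range_congr (hι ⟨c, hc.1⟩) hc.2⟩

/-- The coherent submodules. -/
theorem isColimit_finitePresentation (hqc : IsQuasiCompactSp X.obj) (hqs : IsQuasiSeparatedSp X.obj)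
    (hN : IsLocNoethSp X.obj) (M : ModEt X.obj) [M.IsQuasicoherent] :
    IsFiltered (ObjectProperty.FullSubcategory
        (fun N : MonoOver M => SheafOfModules.IsFinitePresentation N.obj.left)) ∧
      Nonempty (IsColimit ((Over.forgetCocone M).whisker
        (ObjectProperty.ι (fun N : MonoOver M => SheafOfModules.IsFinitePresentation N.obj.left) ⋙
          MonoOver.forget M))) := by
  have hM : IsCart M := isCart_of_isQuasicoherent M
  let P : ObjectProperty (MonoOver M) := fun N => SheafOfModules.IsFinitePresentation N.obj.left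
  let mem : SubOn (Amb.top M) Set.univ → P.FullSubcategory := fun N =>
    ⟨MonoOver.mk (incl N), isFinitePresentation_of_finite hN (isCart_sheaf hM N) (finite_sheaf hM N)⟩
  haveI : IsFiltered P.FullSubcategory :=
    { nonempty := ⟨mem SubOn.bot⟩
      cocone_objs := fun a b => by
        obtain ⟨N, ⟨t₁, h₁⟩, ⟨t₂, h₂⟩⟩ := exists_upper_fp hM a.obj.arrow b.obj.arrow a.2 b.2
        exact ⟨mem N, ObjectProperty.homMk (MonoOver.homMk t₁ h₁), ObjectProperty.homMk (MonoOver.homMk t₂ h₂), trivial⟩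
      cocone_maps := fun a b f g => ⟨b, 𝟙 b, by
        rw [Category.comp_id, Category.comp_id]; exact ObjectProperty.hom_ext _ (Subsingleton.elim _ _)⟩ }
  refine ⟨‹_›, isColimit_of_monos _ _ (fun j => (inferInstance : Mono j.obj.arrow)) fun E _ m => ?_⟩
  exact (exists_family X hqc hqs hM E m).elim fun N hN' =>
    ⟨mem N, mem_range_congr (show _ = incl N from rfl) ((range_incl hM N E m).2 hN')⟩

end Groth.Agent.Lib.EtMod.SubFam
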