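import Groth.Agent.Lib.EtMod.SubFam.Unit
import Groth.Agent.Lib.EtMod.SuppMain
import Groth.Agent.S9988

/-!
# Ideals of finite type and quasi-compact open subspaces
-/

universe u

set_option backward.isDefEq.respectTransparency false
set_option linter.style.haveILetI false

open CategoryTheory CategoryTheory.Limits AlgebraicGeometry Opposite AlgSp

namespace Groth.Agent.Lib.EtMod.SubFam

variable {S : Scheme.{u}}

/-- Functions vanishing at the points outside a set. -/
noncomputable def vanIdeal {X : Sp S} (O : Set (Points X)) (E : EtOver X) : Ideal (fn E) :=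
  ⨅ u ∈ {u : E.obj.left.left | Points.ofPt E.obj.hom u ∉ O}, primeAtPt E.obj.left.left u

theorem mem_vanIdeal {X : Sp S} {O : Set (Points X)} {E : EtOver X} {a : fn E} :
    a ∈ vanIdeal O E ↔
      ∀ u : E.obj.left.left, Points.ofPt E.obj.hom u ∉ O → a ∈ primeAtPt E.obj.left.left u := by
  simp only [vanIdeal, Submodule.mem_iInf, Set.mem_setOf_eq]

theorem fnMap_mem_vanIdeal {X : Sp S} {O : Set (Points X)} {E V : EtOver X} (g : V ⟶ E) {a : fn E}
    (h : a ∈ vanIdeal O E) : fnMap g a ∈ vanIdeal O V := mem_vanIdeal.2 fun v hv => by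
  have := mem_vanIdeal.1 h (g.hom.left.left v) (by rwa [ofPt_comp_left g v])
  rwa [← primeAtPt_comap, Ideal.mem_comap] at this

/-- The sections vanishing outside a set. -/
noncomputable def vanAmb {X : Sp S} (O : Set (Points X)) : Amb (unitModEt X) where
  C E := Submodule.comap (unitSec E).symm.toLinearMap (vanIdeal O E)
  res_mem g s hs := fnMap_mem_vanIdeal g (a := (unitSec _).symm s) hs
  local_mem {E} _ Cv s h := by
    refine mem_vanIdeal.2 fun u hu => ?_
    obtain ⟨k, w, rfl⟩ := Cv.cov u
    rw [← primeAtPt_comap, Ideal.mem_comap]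
    exact mem_vanIdeal.1 (h k) w (by rwa [← ofPt_comp_left (Cv.g k) w])
  away {E} _ t y h := by
    refine ⟨1, mem_vanIdeal.2 fun u hu => ?_⟩
    rw [pow_one]
    change t • (unitSec E).symm y ∈ _
    by_cases ht : t ∈ primeAtPt E.obj.left.left u
    · exact Ideal.mul_mem_right _ _ ht
    · obtain ⟨w, rfl⟩ := (mem_range_basicHom E t u).2 ht
      refine Ideal.mul_mem_left _ _ ?_
      rw [← primeAtPt_comap, Ideal.mem_comap]
      exact mem_vanIdeal.1 h w (by rwa [← ofPt_comp_left (basicHom E t) w])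

variable [QuasiSeparatedSpace ↥S] (X : AlgSp.Space S)

/-- An ideal of finite type cutting out the complement of a quasi-compact open subspace. -/
theorem exists_ideal (hqc : IsQuasiCompactSp X.obj) (hqs : IsQuasiSeparatedSp X.obj)
    {U : AlgSp.Space S} (j : U ⟶ X) (hj : RepWith @IsOpenImmersion j.hom) (hU : IsQuasiCompactSp U.obj) :
    ∃ (I : IdealEt X.obj), I.IsQCoh ∧
      (∀ (E : EtOver X.obj) (hE : IsAffine E.obj.left.left), (I.ideal E hE).FG) ∧
      ∃ (Z : AlgSp.Space S) (i : Z ⟶ X), IsCutOutBy I i.hom ∧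
        Set.range (Points.map i.hom) = (Set.range (Points.map j.hom))ᶜ := by
  set O := Set.range (Points.map j.hom) with hO
  have hO' : IsOpen O := (Groth.Agent.Lib.AlgSpace.isOpenEmbedding_map hj).isOpen_range
  let N : SubOn (vanAmb O) O :=
    { N := fun _ => ⊤
      map_eq := fun {E V} _ _ g _ => top_unique fun s _ => by
        have h1 : res (unitModEt X.obj) g (unitSec E 1) ∈ pushSub g (⊤ : Submodule (fn E) _) :=
          res_mem_pushSub g trivial
        rw [unitSec_res, map_one] at h1
        have := Submodule.smul_mem _ ((unitSec V).symm s) h1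
        rwa [← map_smul, smul_eq_mul, mul_one, LinearEquiv.apply_symm_apply] at this
      fg := fun E _ _ => (Submodule.map_top (unitSec E).toLinearMap).trans
        (LinearEquiv.range _) ▸ Submodule.FG.map _ Module.Finite.fg_top
      le := fun E _ hE s _ => mem_vanIdeal.2 fun u hu => absurd (hE ⟨u, rfl⟩) hu }
  obtain ⟨N', hN'⟩ := exists_extension hqc hqs isCart_unit (vanAmb O) j hj hU N
  let J : ∀ E : EtOver X.obj, Ideal (fn E) := fun E => (N'.N E).map (unitSec E).symm.toLinearMap
  have hmem : ∀ (E : EtOver X.obj) (a : fn E), a ∈ J E ↔ unitSec E a ∈ N'.N E := fun E a =>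
    ⟨fun ⟨s, hs, h⟩ => by rwa [← h, LinearEquiv.coe_toLinearMap, LinearEquiv.apply_symm_apply],
      fun h => ⟨_, h, LinearEquiv.symm_apply_apply _ _⟩⟩
  let I : IdealEt X.obj :=
    { ideal := fun E _ => J E
      map_le := fun {E E'} g hE hE' => Ideal.map_le_iff_le_comap.2 fun a ha => (hmem E' _).2 (by
        rw [← N'.map_eq g (Set.subset_univ _), ← unitSec_res]
        exact res_mem_pushSub g ((hmem E a).1 ha)) }
  have hIq : I.IsQCoh := fun E E' g hE hE' a ha => by
    have h1 : unitSec E' a ∈ pushSub g (N'.N E) := by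
      rw [N'.map_eq g (Set.subset_univ _)]
      exact (hmem E' a).1 ha
    have h2 : pushSub g (N'.N E) ≤
        Submodule.comap (unitSec E').symm.toLinearMap ((J E).map (fnMap g)) :=
      (pushSub_le_iff g).2 fun s hs =>
        Ideal.mem_map_of_mem (fnMap g) (show (unitSec E).symm s ∈ J E from ⟨s, hs, rfl⟩)
    exact h2 h1
  obtain ⟨Z, i, hcut⟩ := Groth.Agent.S9988.result X I hIq
  refine ⟨I, hIq, fun E hE => Submodule.FG.map _ (N'.fg E (Set.subset_univ _)), Z, i, hcut, ?_⟩
  obtain ⟨hi, hI⟩ := hcut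
  have hker : ∀ (E : EtOver X.obj) [IsAffine E.obj.left.left], RingHom.ker (πfn hi.1 E) = J E := fun E hE =>
    congrArg (fun I' : IdealEt X.obj => I'.ideal E hE) hI
  ext x
  rw [Set.mem_compl_iff]
  constructor
  · intro hxi hxO
    obtain ⟨E, hE, hEO, u, rfl⟩ := exists_chart_in_open X.property hO' hxO
    have h := (mem_range_map_iff hi E u).1 hxi
    rw [hker E] at h
    refine (isPrime_primeAtPt E.obj.left.left u).ne_top ((Ideal.eq_top_iff_one _).2 (h ((hmem E 1).2 ?_)))
    rw [hN' E hEO]
    trivial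
  · intro hxO
    obtain ⟨E, hE, u, rfl⟩ := exists_affine_point X.property x
    refine (mem_range_map_iff hi E u).2 ?_
    rw [hker E]
    exact fun a ha => (mem_vanIdeal (a := a)).1
      (N'.le E (Set.subset_univ _) ((hmem E a).1 ha)) u hxO

omit [QuasiSeparatedSpace ↥S] in
/-- The complement of the zero set of an ideal of finite type is quasi-compact. -/
theorem isQuasiCompact_of_ideal (hqc : IsQuasiCompactSp X.obj) {U : AlgSp.Space S} (j : U ⟶ X)
    (hj : RepWith @IsOpenImmersion j.hom) (I : IdealEt X.obj)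
    (hfg : ∀ (E : EtOver X.obj) (hE : IsAffine E.obj.left.left), (I.ideal E hE).FG)
    {Z : AlgSp.Space S} (i : Z ⟶ X) (hcut : IsCutOutBy I i.hom)
    (h : Set.range (Points.map i.hom) = (Set.range (Points.map j.hom))ᶜ) :
    IsQuasiCompactSp U.obj := by
  obtain ⟨hi, hI⟩ := hcut
  have := Groth.Agent.Lib.AlgSpMor.QC.compactSpace_points hqc
  obtain ⟨E, hE, hsurj⟩ : ∃ (E : EtOver X.obj) (_ : IsAffine E.obj.left.left),
      Function.Surjective (Points.ofPt E.obj.hom) := by
    obtain ⟨U, q, hU, hq, hqs⟩ := Groth.Agent.Lib.AlgSpMor.QC.exists_affine_atlas X.property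
    exact ⟨EtOver.mk q hq, hU, Groth.Agent.Lib.AlgSpDecent.Core.surjective_ofPt hqs⟩
  obtain ⟨T, hT⟩ := hfg E hE
  refine Groth.Agent.H8.EDSInduction.isQuasiCompactSp_of_range U.property hj ?_
  have key : Set.range (Points.map j.hom) = Points.ofPt E.obj.hom '' ⋃ t ∈ T,
      (E.obj.left.left.basicOpen t : Set E.obj.left.left) := by
    ext x
    constructor
    · intro hx
      obtain ⟨u, rfl⟩ := hsurj x
      refine ⟨u, ?_, rfl⟩
      by_contra hu
      refine (h ▸ (show Points.ofPt E.obj.hom u ∈ Set.range (Points.map i.hom) from ?_) : _ ∈ (Set.range (Points.map j.hom))ᶜ) hx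
      refine (mem_range_map_iff hi E u).2 ?_
      rw [show RingHom.ker (πfn hi.1 E) = I.ideal E hE from congrArg (fun I' : IdealEt X.obj => I'.ideal E hE) hI, ← hT]
      refine Submodule.span_le.2 fun t ht => ?_
      by_contra htu
      exact hu (Set.mem_iUnion₂.2 ⟨t, ht, (Scheme.mem_basicOpen _ _ _ (Set.mem_univ u : u ∈ (⊤ : E.obj.left.left.Opens))).2 (by_contra htu)⟩)
    · rintro ⟨u, hu, rfl⟩
      obtain ⟨t, ht, htu⟩ := Set.mem_iUnion₂.1 hu
      by_contra hx
      have hz : Points.ofPt E.obj.hom u ∈ Set.range (Points.map i.hom) := h ▸ hx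
      have h' := (mem_range_map_iff hi E u).1 hz
      rw [show RingHom.ker (πfn hi.1 E) = I.ideal E hE from congrArg (fun I' : IdealEt X.obj => I'.ideal E hE) hI, ← hT] at h'
      exact h' (Submodule.subset_span ht) ((Scheme.mem_basicOpen _ _ _ (Set.mem_univ u : u ∈ (⊤ : E.obj.left.left.Opens))).1 htu)
  rw [key]
  refine IsCompact.image ?_ (Points.continuous_ofPt E.obj.hom)
  exact T.finite_toSet.isCompact_biUnion fun t _ => ((isAffineOpen_top E.obj.left.left).basicOpen t).isCompact

end Groth.Agent.Lib.EtMod.SubFam
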