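import Groth.Agent.Lib.EtMod.SubFam.Apps

/-!
# The structure sheaf as a module
-/

universe u

set_option backward.isDefEq.respectTransparency false
set_option linter.style.haveILetI false

open CategoryTheory CategoryTheory.Limits AlgebraicGeometry Opposite AlgSp

namespace Groth.Agent.Lib.EtMod

variable {S : Scheme.{u}} {X : Sp S}

/-- Sections of the structure sheaf. -/
noncomputable def unitSec (E : EtOver X) : fn E ≃ₗ[fn E] sectModEt (unitModEt X) E where
  toFun a := (ULift.up a : ULift.{u + 1} Γ(E.obj.left.left, ⊤))
  invFun s := (s : ULift.{u + 1} Γ(E.obj.left.left, ⊤)).down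
  map_add' _ _ := rfl
  map_smul' _ _ := rfl

theorem unitSec_res {E V : EtOver X} (g : V ⟶ E) (a : fn E) :
    res (unitModEt X) g (unitSec E a) = unitSec V (fnMap g a) := rfl

theorem isCart_unit : IsCart (unitModEt X) := by
  intro E V _ _ g
  letI := (fnMap g).toAlgebra
  letI := Module.compHom (sectModEt (unitModEt X) V) (fnMap g)
  haveI : IsScalarTower (fn E) (fn V) (sectModEt (unitModEt X) V) :=
    IsScalarTower.of_algebraMap_smul fun _ _ => rfl
  exact (IsBaseChange.iff_of_equiv_comm (f := Algebra.linearMap (fn E) (fn V)) (unitSec E) (unitSec V)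
    (LinearMap.ext fun a => unitSec_res g a)).1 (IsBaseChange.linearMap (fn E) (fn V))

end Groth.Agent.Lib.EtMod
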