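import Groth.Agent.Lib.EtMod.SubFam.Sheaf

/-!
# A quasi-coherent module as the colimit of its submodules of finite type
-/

universe u v w

set_option backward.isDefEq.respectTransparency false
set_option linter.style.haveILetI false

open CategoryTheory CategoryTheory.Limits AlgebraicGeometry Opposite AlgSp

namespace Groth.Agent.Lib.EtMod.SubFam

variable {S : Scheme.{u}} {X : Sp S} {M T : ModEt X}

/-- Morphisms of modules are determined by, and glue from, affine objects. -/
theorem exists_hom (φ : ∀ (E : EtOver X), IsAffine E.obj.left.left → (sectModEt M E →ₗ[fn E] sectModEt T E))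
    (hφ : ∀ {E V : EtOver X} (hE : IsAffine E.obj.left.left) (hV : IsAffine V.obj.left.left) (g : V ⟶ E)
      (m : sectModEt M E), φ V hV (res M g m) = res T g (φ E hE m)) :
    ∃ ψ : M ⟶ T, ∀ (E : EtOver X) (hE : IsAffine E.obj.left.left) (m : sectModEt M E),
      secMap ψ E m = φ E hE m := by
  have key : ∀ (V : EtOver X) (m : sectModEt M V), ∃ t : sectModEt T V, ∀ (W : EtOver X)
      (hW : IsAffine W.obj.left.left) (k : W ⟶ V), res T k t = φ W hW (res M k m) := fun V m => by
    choose W j hW hj using fun v : V.obj.left.left => exists_affine_open_obj v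
    obtain ⟨t, ht⟩ := exists_glue (M := T) W j (fun v => ⟨v, hj v⟩)
      (fun v => φ (W v) (hW v) (res M (j v) m)) fun a b => by
      choose W' j' hW' hj' using fun v : (EtOver.pullbackObj (j a) (j b)).obj.left.left => exists_affine_open_obj v
      refine eq_of_cover W' j' (fun v => ⟨v, hj' v⟩) fun v => ?_
      rw [← res_comp_apply, ← res_comp_apply, ← hφ _ (hW' v), ← hφ _ (hW' v), ← res_comp_apply,
        ← res_comp_apply, Category.assoc, Category.assoc, EtOver.pullback_condition]
    refine ⟨t, fun W' hW' k => ?_⟩
    choose W'' j'' hW'' hj'' using fun z : Σ v, (EtOver.pullbackObj k (j v)).obj.left.left =>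
      exists_affine_open_obj z.2
    refine eq_of_cover W'' (fun z => j'' z ≫ EtOver.pullbackFst k (j z.1)) (fun x => ?_) fun z => ?_
    · obtain ⟨v, hv⟩ : ∃ v, k.hom.left.left x ∈ Set.range (j v).hom.left.left := ⟨_, hj _⟩
      obtain ⟨y, rfl⟩ := exists_pullbackFst_preimage k (j v) hv
      obtain ⟨w, hw⟩ := hj'' ⟨v, y⟩
      exact ⟨⟨v, y⟩, w, congrArg (EtOver.pullbackFst k (j v)).hom.left.left hw⟩
    · rw [← res_comp_apply, ← hφ hW' (hW'' z), ← res_comp_apply, Category.assoc, EtOver.pullback_condition,
        ← Category.assoc, res_comp_apply (M := T), ht, res_comp_apply (M := M), hφ (hW z.1) (hW'' z)]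
  choose t ht using key
  have huniq : ∀ (V : EtOver X) (m : sectModEt M V) (s : sectModEt T V),
      (∀ (W : EtOver X) (hW : IsAffine W.obj.left.left) (k : W ⟶ V), res T k s = φ W hW (res M k m)) →
        s = t V m := fun V m s hs => by
    choose W j hW hj using fun v : V.obj.left.left => exists_affine_open_obj v
    exact eq_of_cover W j (fun v => ⟨v, hj v⟩) fun v => (hs _ (hW v) _).trans (ht V m _ (hW v) _).symm
  have hadd : ∀ (V : EtOver X) (m m' : sectModEt M V), t V (m + m') = t V m + t V m' := fun V m m' =>
    (huniq V _ _ fun W hW k => by rw [map_add, ht V m W hW k, ht V m' W hW k, map_add, map_add]).symm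
  have hsmul : ∀ (V : EtOver X) (r : fn V) (m : sectModEt M V), t V (r • m) = r • t V m := fun V r m =>
    (huniq V _ _ fun W hW k => by rw [res_smul, res_smul, ht V m W hW k, map_smul]).symm
  let ψ : M.val ⟶ T.val := PresheafOfModules.homMk
    { app := fun V => AddCommGrpCat.ofHom (AddMonoidHom.mk' (fun m => t V.unop m) (hadd V.unop))
      naturality := fun V V' g => AddCommGrpCat.hom_ext <| AddMonoidHom.ext fun m => by
        change t V'.unop (res M g.unop m) = res T g.unop (t V.unop m)
        exact (huniq _ _ _ fun W hW k => by rw [← res_comp_apply, ← res_comp_apply]; exact ht _ m W hW _).symm }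
    (fun V r m => hsmul V.unop r.down m)
  refine ⟨⟨ψ⟩, fun E hE m => ?_⟩
  change t E m = φ E hE m
  have h := ht E m E hE (𝟙 E)
  rwa [res_id_apply, res_id_apply] at h

/-- A filtered system of submodules covering all affine sections is a colimit. -/
theorem isColimit_of_monos {J : Type w} [Category.{v} J] [IsFiltered J] (D : J ⥤ ModEt X)
    (ι : D ⟶ (Functor.const J).obj M) (hmono : ∀ j, Mono (ι.app j))
    (hcov : ∀ (E : EtOver X) [IsAffine E.obj.left.left] (m : sectModEt M E),
      ∃ j, m ∈ Set.range (secMap (ι.app j) E)) :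
    Nonempty (IsColimit (Cocone.mk M ι)) := by
  have hdesc : ∀ c : Cocone D, ∃ ψ : M ⟶ c.pt, ∀ j, ι.app j ≫ ψ = c.ι.app j := fun c => by
    have hi : ∀ (E : EtOver X) (j j' : J) (y : sectModEt (D.obj j) E) (y' : sectModEt (D.obj j') E),
        secMap (ι.app j) E y = secMap (ι.app j') E y' → secMap (c.ι.app j) E y = secMap (c.ι.app j') E y' := by
      intro E j j' y y' h
      have hw : ∀ (i k : J) (f : i ⟶ k), D.map f ≫ ι.app k = ι.app i := fun i k f =>
        (ι.naturality f).trans (Category.comp_id _)
      haveI := hmono (IsFiltered.max j j')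
      have hy : secMap (D.map (IsFiltered.leftToMax j j')) E y = secMap (D.map (IsFiltered.rightToMax j j')) E y' := by
        refine injective_secMap_of_mono (ι.app (IsFiltered.max j j')) E ?_
        rw [← secMap_comp, ← secMap_comp, hw, hw]
        exact h
      rw [← c.w (IsFiltered.leftToMax j j'), ← c.w (IsFiltered.rightToMax j j'), secMap_comp, secMap_comp, hy]
      rfl
    choose jE yE hyE using fun (E : EtOver X) (hE : IsAffine E.obj.left.left) (m : sectModEt M E) => hcov E m
    let φ : ∀ E : EtOver X, IsAffine E.obj.left.left → (sectModEt M E →ₗ[fn E] sectModEt c.pt E) := fun E hE =>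
      { toFun := fun m => secMap (c.ι.app (jE E hE m)) E (yE E hE m)
        map_add' := fun m m' => by
          let j := jE E hE m; let j' := jE E hE m'
          have hw : ∀ (i k : J) (f : i ⟶ k) (y : sectModEt (D.obj i) E),
              secMap (ι.app k) E (secMap (D.map f) E y) = secMap (ι.app i) E y := fun i k f y => by
            rw [← secMap_comp, show D.map f ≫ ι.app k = ι.app i from (ι.naturality f).trans (Category.comp_id _)]
            rfl
          rw [hi E _ (IsFiltered.max j j') (yE E hE (m + m'))
            (secMap (D.map (IsFiltered.leftToMax j j')) E (yE E hE m) +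
              secMap (D.map (IsFiltered.rightToMax j j')) E (yE E hE m'))
            (by rw [map_add, hw, hw, hyE, hyE, hyE]), map_add, ← secMap_comp, ← secMap_comp, c.w, c.w]
          rfl
        map_smul' := fun r m => by
          rw [RingHom.id_apply, hi E _ (jE E hE m) (yE E hE (r • m)) (r • yE E hE m)
            (by rw [map_smul, hyE, hyE]), map_smul] }
    obtain ⟨ψ, hψ⟩ := exists_hom φ fun {E V} hE hV g m => by
      change secMap (c.ι.app _) V _ = res c.pt g (secMap (c.ι.app _) E _)
      refine (hi V (jE V hV (res M g m)) (jE E hE m) (yE V hV (res M g m)) (res (D.obj (jE E hE m)) g (yE E hE m)) ?_).trans (secMap_res (c.ι.app (jE E hE m)) g _)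
      exact (hyE V hV _).trans (((congrArg (res M g) (hyE E hE m)).symm).trans (secMap_res (ι.app _) g _).symm)
    refine ⟨ψ, fun j => SheafOfModules.hom_ext (PresheafOfModules.hom_ext fun Y =>
      ModuleCat.hom_ext (LinearMap.ext fun m => ?_))⟩
    obtain ⟨Y⟩ := Y
    choose W k hW hk using fun v : Y.obj.left.left => exists_affine_open_obj v
    refine eq_of_cover W k (fun v => ⟨v, hk v⟩) fun v => ?_
    change res c.pt (k v) (secMap (ι.app j ≫ ψ) Y m) = res c.pt (k v) (secMap (c.ι.app j) Y m)
    refine (secMap_res (ι.app j ≫ ψ) (k v) m).symm.trans (Eq.trans ?_ (secMap_res (c.ι.app j) (k v) m))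
    refine (secMap_comp (ι.app j) ψ _ _).trans ((hψ _ (hW v) _).trans ?_)
    exact hi _ _ _ _ _ (hyE _ _ _)
  choose desc fac using hdesc
  refine ⟨{ desc := desc, fac := fac, uniq := fun c f hf => ?_ }⟩
  refine SheafOfModules.hom_ext (PresheafOfModules.hom_ext fun Y =>
    ModuleCat.hom_ext (LinearMap.ext fun m => ?_))
  obtain ⟨Y⟩ := Y
  choose W k hW hk using fun v : Y.obj.left.left => exists_affine_open_obj v
  refine eq_of_cover W k (fun v => ⟨v, hk v⟩) fun v => ?_
  change res c.pt (k v) (secMap f Y m) = res c.pt (k v) (secMap (desc c) Y m)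
  rw [← secMap_res, ← secMap_res]
  have := hW v
  obtain ⟨j, y, hy⟩ := hcov (W v) (res M (k v) m)
  rw [← hy]
  refine (secMap_comp (ι.app j) f _ y).symm.trans (Eq.trans ?_ (secMap_comp (ι.app j) (desc c) _ y))
  exact congrArg (fun ψ : D.obj j ⟶ c.pt => secMap ψ (W v) y) ((hf j).trans (fac c j).symm)

end Groth.Agent.Lib.EtMod.SubFam
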