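import Groth.Agent.Lib.EtMod.SubFam.Push
import Groth.Agent.Lib.EtMod.StalkLocal

/-!
# Finitely generated families of submodules over open subsets, and their extension
-/

universe u

set_option backward.isDefEq.respectTransparency false
set_option linter.style.haveILetI false

open CategoryTheory CategoryTheory.Limits AlgebraicGeometry Opposite AlgSp

namespace Groth.Agent.Lib.EtMod.SubFam

variable {S : Scheme.{u}} {X : Sp S}

theorem mem_of_local {M : ModEt X} (hM : IsCart M) {E : EtOver X} [IsAffine E.obj.left.left] (C : AffCover E)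
    {Q : Submodule (fn E) (sectModEt M E)} {s : sectModEt M E}
    (h : ∀ k, res M (C.g k) s ∈ pushSub (C.g k) Q) : s ∈ Q :=
  Submodule.span_eq Q ▸ mem_span_of_local hM C h

theorem range_subset_of_hom {O : Set (Points X)} {E V : EtOver X} (g : V ⟶ E)
    (h : Set.range (Points.ofPt E.obj.hom) ⊆ O) : Set.range (Points.ofPt V.obj.hom) ⊆ O := by
  rintro _ ⟨v, rfl⟩
  exact h ⟨_, ofPt_comp_left g v⟩

/-- A covering by affine objects with a given property. -/
theorem exists_good_cover {E : EtOver X} [IsAffine E.obj.left.left] (P : ∀ ⦃V : EtOver X⦄, (V ⟶ E) → Prop)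
    (hdown : ∀ {A B : EtOver X} (g : B ⟶ A) (b : A ⟶ E), P b → P (g ≫ b))
    (h : ∀ x : E.obj.left.left, ∃ (V : EtOver X) (b : V ⟶ E), P b ∧ x ∈ Set.range b.hom.left.left) :
    ∃ C : AffCover E, ∀ k, P (C.g k) := by
  choose V b hb hx using h
  obtain ⟨C, hC⟩ := exists_affCover (ofArrows_mem_etTop V b fun x => ⟨x, hx x⟩)
  refine ⟨C, fun k => ?_⟩
  obtain ⟨_, a, _, ⟨x⟩, hk⟩ := hC k
  exact hk ▸ hdown a (b x) (hb x)

/-- The pullback of a covering. -/
noncomputable def pullCover {E W : EtOver X} [IsAffine E.obj.left.left] [IsAffine W.obj.left.left]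
    (C : AffCover E) (a : W ⟶ E) : AffCover W where
  n := C.n
  V k := EtOver.pullbackObj a (C.g k)
  g k := EtOver.pullbackFst a (C.g k)
  aff _ := inferInstance
  cov w := (C.cov (a.hom.left.left w)).imp fun k hk => exists_pullbackFst_preimage a (C.g k) hk

/-- The covering by the pullbacks of one object. -/
noncomputable def singleCover {E W U : EtOver X} [IsAffine E.obj.left.left] [IsAffine W.obj.left.left]
    [IsAffine U.obj.left.left] (a : W ⟶ E) (c : U ⟶ E)
    (h : ∀ w, a.hom.left.left w ∈ Set.range c.hom.left.left) : AffCover W where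
  n := 1
  V _ := EtOver.pullbackObj a c
  g _ := EtOver.pullbackFst a c
  aff _ := inferInstance
  cov w := ⟨0, exists_pullbackFst_preimage a c (h w)⟩

variable (M : ModEt X)

/-- A condition on sections that restricts, is local, and extends from basic opens up to powers. -/
structure Amb where
  C : ∀ E : EtOver X, Submodule (fn E) (sectModEt M E)
  res_mem : ∀ {E V : EtOver X} (g : V ⟶ E) (s : sectModEt M E), s ∈ C E → res M g s ∈ C V
  local_mem : ∀ {E : EtOver X} [IsAffine E.obj.left.left] (Cv : AffCover E) (s : sectModEt M E),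
    (∀ k, res M (Cv.g k) s ∈ C (Cv.V k)) → s ∈ C E
  away : ∀ {E : EtOver X} [IsAffine E.obj.left.left] (t : fn E) (y : sectModEt M E),
    res M (basicHom E t) y ∈ C (basicObj E t) → ∃ m : ℕ, t ^ m • y ∈ C E

/-- No condition. -/
noncomputable def Amb.top : Amb M where
  C _ := ⊤
  res_mem _ _ _ := trivial
  local_mem _ _ _ := trivial
  away _ _ _ := ⟨0, trivial⟩

variable {M}

/-- A compatible family of finitely generated submodules over the affine objects inside `O`. -/
structure SubOn (A : Amb M) (O : Set (Points X)) where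
  N : ∀ E : EtOver X, Submodule (fn E) (sectModEt M E)
  map_eq : ∀ {E V : EtOver X} [IsAffine E.obj.left.left] [IsAffine V.obj.left.left] (g : V ⟶ E),
    Set.range (Points.ofPt E.obj.hom) ⊆ O → pushSub g (N E) = N V
  fg : ∀ (E : EtOver X) [IsAffine E.obj.left.left], Set.range (Points.ofPt E.obj.hom) ⊆ O → (N E).FG
  le : ∀ (E : EtOver X) [IsAffine E.obj.left.left], Set.range (Points.ofPt E.obj.hom) ⊆ O → N E ≤ A.C E

variable {A : Amb M}

/-- Families on a basis of affine objects extend. -/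
theorem exists_extend (hM : IsCart M) {O' : Set (Points X)} (Good : EtOver X → Prop)
    (hdown : ∀ {E V : EtOver X} (_ : V ⟶ E), Good E → Good V)
    (hcov : ∀ (E : EtOver X) [IsAffine E.obj.left.left], Set.range (Points.ofPt E.obj.hom) ⊆ O' →
      ∀ x : E.obj.left.left, ∃ (V : EtOver X) (b : V ⟶ E), Good V ∧ x ∈ Set.range b.hom.left.left)
    (N₁ : ∀ E : EtOver X, Submodule (fn E) (sectModEt M E))
    (hmap : ∀ {E V : EtOver X} [IsAffine E.obj.left.left] [IsAffine V.obj.left.left] (g : V ⟶ E),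
      Good E → pushSub g (N₁ E) = N₁ V)
    (hfg : ∀ (E : EtOver X) [IsAffine E.obj.left.left], Good E → (N₁ E).FG)
    (hle : ∀ (E : EtOver X) [IsAffine E.obj.left.left], Good E → N₁ E ≤ A.C E) :
    ∃ N' : SubOn A O', ∀ (E : EtOver X) [IsAffine E.obj.left.left],
      Set.range (Points.ofPt E.obj.hom) ⊆ O' → Good E → N'.N E = N₁ E := by
  classical
  have key : ∀ (E : EtOver X) [IsAffine E.obj.left.left], Set.range (Points.ofPt E.obj.hom) ⊆ O' →
      ∃ Q : Submodule (fn E) (sectModEt M E), Q.FG ∧ Q ≤ A.C E ∧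
        ∀ (W : EtOver X) [IsAffine W.obj.left.left] (a : W ⟶ E), Good W → pushSub a Q = N₁ W := fun E _ hE => by
    obtain ⟨C, hC⟩ := exists_good_cover (E := E) (fun V _ => Good V) (fun g _ h => hdown g h) (hcov E hE)
    obtain ⟨Q, hQ, hQ'⟩ := exists_descent hM C (fun k => N₁ (C.V k)) (fun k => hfg _ (hC k))
      fun k l => (hmap _ (hC k)).trans (hmap _ (hC l)).symm
    refine ⟨Q, hQ, fun s hs => A.local_mem C s fun k => ?_, fun W _ a hW => ?_⟩
    · exact hle _ (hC k) (hQ' k ▸ res_mem_pushSub _ hs)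
    · refine eq_of_local hM (pullCover C a) fun k => ?_
      change pushSub (EtOver.pullbackFst a (C.g k)) (pushSub a Q) = pushSub (EtOver.pullbackFst a (C.g k)) (N₁ W)
      rw [pushSub_comp, EtOver.pullback_condition, ← pushSub_comp, hQ' k, hmap _ hW, hmap _ (hC k)]
  choose Q hQ hQC hQ' using key
  let N' : ∀ E : EtOver X, Submodule (fn E) (sectModEt M E) := fun E =>
    if h : IsAffine E.obj.left.left ∧ Set.range (Points.ofPt E.obj.hom) ⊆ O' then
      (haveI := h.1; Q E h.2) else ⊥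
  have hN' : ∀ (E : EtOver X) [IsAffine E.obj.left.left] (h : Set.range (Points.ofPt E.obj.hom) ⊆ O'),
      N' E = Q E h := fun E _ h => dif_pos ⟨inferInstance, h⟩
  refine ⟨⟨N', fun {E V} _ _ g hE => ?_, fun E _ hE => hN' E hE ▸ hQ E hE,
    fun E _ hE => hN' E hE ▸ hQC E hE⟩, fun E _ hE hg => ?_⟩
  · have hV := range_subset_of_hom g hE
    rw [hN' E hE, hN' V hV]
    obtain ⟨C, hC⟩ := exists_good_cover (E := V) (fun W _ => Good W) (fun g _ h => hdown g h) (hcov V hV)
    refine eq_of_local hM C fun k => ?_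
    rw [pushSub_comp, hQ' E hE _ _ (hC k), hQ' V hV _ _ (hC k)]
  · change N' E = N₁ E
    rw [hN' E hE]
    exact (pushSub_id _).symm.trans (hQ' E hE E (𝟙 E) hg)

/-- Finitely many basic opens covering the part of an affine object inside an open set. -/
theorem exists_basic_cover {O : Set (Points X)} (hO : IsOpen O) (E : EtOver X) [IsAffine E.obj.left.left]
    (hc : IsCompact {v : E.obj.left.left | Points.ofPt E.obj.hom v ∈ O}) :
    ∃ T : Finset (fn E), (∀ t ∈ T, Set.range (Points.ofPt (basicObj E t).obj.hom) ⊆ O) ∧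
      ∀ v : E.obj.left.left, Points.ofPt E.obj.hom v ∈ O →
        ∃ t ∈ T, v ∈ Set.range (basicHom E t).hom.left.left := by
  classical
  have h : ∀ v : {v : E.obj.left.left // Points.ofPt E.obj.hom v ∈ O}, ∃ t : fn E,
      Set.range (basicHom E t).hom.left.left ⊆ {v | Points.ofPt E.obj.hom v ∈ O} ∧
        v.1 ∈ Set.range (basicHom E t).hom.left.left := fun v => by
    obtain ⟨t, ht, hv⟩ := (isAffineOpen_top E.obj.left.left).exists_basicOpen_le
      (V := ⟨_, hO.preimage (Points.continuous_ofPt E.obj.hom)⟩) ⟨v.1, v.2⟩ trivial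
    exact ⟨t, fun w ⟨z, hz⟩ => hz ▸ ht z.2, ⟨v.1, hv⟩, rfl⟩
  choose t ht hv using h
  have hopen : ∀ v, IsOpen (Set.range (basicHom E (t v)).hom.left.left) := fun v => by
    have := EtOver.etale_left (basicHom E (t v))
    exact (basicHom E (t v)).hom.left.left.isOpenMap.isOpen_range
  obtain ⟨F, hF⟩ := hc.elim_finite_subcover (fun v => Set.range (basicHom E (t v)).hom.left.left) hopen
    fun v hv' => Set.mem_iUnion.2 ⟨⟨v, hv'⟩, hv ⟨v, hv'⟩⟩
  refine ⟨F.image t, fun s hs => ?_, fun v hv' => ?_⟩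
  · obtain ⟨v, -, rfl⟩ := Finset.mem_image.1 hs
    rintro _ ⟨w, rfl⟩
    rw [← ofPt_comp_left (basicHom E (t v)) w]
    exact ht v ⟨w, rfl⟩
  · obtain ⟨v', hv'', hmem⟩ := Set.mem_iUnion₂.1 (hF hv')
    exact ⟨_, Finset.mem_image_of_mem t hv'', hmem⟩

theorem exists_common_pow {ι : Type*} (T : Finset ι) (P : ι → ℕ → Prop)
    (hup : ∀ i m m', m ≤ m' → P i m → P i m') (h : ∀ i ∈ T, ∃ m, P i m) : ∃ m, ∀ i ∈ T, P i m := by
  classical
  choose m hm using h
  exact ⟨T.attach.sup fun i => m i.1 i.2, fun i hi => hup i _ _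
    (Finset.le_sup (f := fun i : T => m i.1 i.2) (Finset.mem_attach T ⟨i, hi⟩)) (hm i hi)⟩

theorem exists_pow_res_mem (hM : IsCart M) {O : Set (Points X)} (N : SubOn A O) {E : EtOver X}
    [IsAffine E.obj.left.left] (t t' : fn E) (ht : Set.range (Points.ofPt (basicObj E t).obj.hom) ⊆ O)
    (ht' : Set.range (Points.ofPt (basicObj E t').obj.hom) ⊆ O) {p : sectModEt M E}
    (hp : res M (basicHom E t) p ∈ N.N (basicObj E t)) :
    ∃ m : ℕ, res M (basicHom E t') (t ^ m • p) ∈ N.N (basicObj E t') := by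
  let D := basicObj E t'
  let s : fn D := fnMap (basicHom E t') t
  let a := basicHom D s
  have hcov : ∀ w, (a ≫ basicHom E t').hom.left.left w ∈ Set.range (basicHom E t).hom.left.left := fun w => by
    rw [mem_range_basicHom]
    intro hm
    refine (mem_range_basicHom D s (a.hom.left.left w)).1 ⟨w, rfl⟩ ?_
    change t ∈ (primeAtPt D.obj.left.left (a.hom.left.left w)).comap (fnMap (basicHom E t'))
    rw [primeAtPt_comap]
    exact hm
  have hmem : res M a (res M (basicHom E t') p) ∈ pushSub a (N.N D) := by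
    refine mem_of_local hM (singleCover (a ≫ basicHom E t') (basicHom E t) hcov) fun k => ?_
    change res M (EtOver.pullbackFst (a ≫ basicHom E t') (basicHom E t)) _ ∈
      pushSub (EtOver.pullbackFst (a ≫ basicHom E t') (basicHom E t)) (pushSub a (N.N D))
    rw [pushSub_comp, N.map_eq _ ht', ← N.map_eq (EtOver.pullbackSnd (a ≫ basicHom E t') (basicHom E t)) ht,
      ← res_comp_apply a, ← res_comp_apply, EtOver.pullback_condition, res_comp_apply]
    exact res_mem_pushSub _ hp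
  obtain ⟨m, hm⟩ := exists_pow_smul_mem_of_res D s hM (N.N D) hmem
  exact ⟨m, by rw [res_smul, map_pow]; exact hm⟩

theorem exists_gen_lift (hM : IsCart M) {O : Set (Points X)} (N : SubOn A O) {E : EtOver X}
    [IsAffine E.obj.left.left] (T : Finset (fn E))
    (hT : ∀ t ∈ T, Set.range (Points.ofPt (basicObj E t).obj.hom) ⊆ O) {t : fn E} (ht : t ∈ T)
    {s : sectModEt M (basicObj E t)} (hs : s ∈ N.N (basicObj E t)) :
    ∃ (y : sectModEt M E) (n : ℕ), y ∈ A.C E ∧ res M (basicHom E t) y = fnMap (basicHom E t) t ^ n • s ∧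
      ∀ t' ∈ T, res M (basicHom E t') y ∈ N.N (basicObj E t') := by
  obtain ⟨n, p, hp⟩ := exists_lift E t hM s
  have hpN : res M (basicHom E t) p ∈ N.N (basicObj E t) := hp ▸ Submodule.smul_mem _ _ hs
  obtain ⟨m₀, hm₀⟩ := A.away t p (N.le _ (hT t ht) hpN)
  obtain ⟨m, hm⟩ := exists_common_pow T
    (fun t' m => res M (basicHom E t') (t ^ m • p) ∈ N.N (basicObj E t'))
    (fun t' a b hab h => by
      obtain ⟨c, rfl⟩ := Nat.exists_eq_add_of_le hab
      rw [add_comm, pow_add, mul_smul, res_smul]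
      exact Submodule.smul_mem _ _ h)
    fun t' ht' => exists_pow_res_mem hM N t t' (hT t ht) (hT t' ht') hpN
  refine ⟨t ^ (m₀ + m) • p, m₀ + m + n, ?_, ?_, fun t' ht' => ?_⟩
  · rw [pow_add, mul_comm, mul_smul]
    exact Submodule.smul_mem _ _ hm₀
  · rw [res_smul, ← hp, map_pow, smul_smul, ← pow_add]
  · rw [pow_add, mul_smul, res_smul]
    exact Submodule.smul_mem _ _ (hm t' ht')

/-- The extension over one more affine object. -/
theorem exists_step (hM : IsCart M) {O : Set (Points X)} (hO : IsOpen O) (N : SubOn A O) (V₀ : EtOver X)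
    [IsAffine V₀.obj.left.left] (hc : IsCompact {v : V₀.obj.left.left | Points.ofPt V₀.obj.hom v ∈ O})
    (hloc : ∀ {E : EtOver X} [IsAffine E.obj.left.left] (a b : E ⟶ V₀) (w : E.obj.left.left),
      Points.ofPt E.obj.hom w ∉ O →
        ∃ (W : EtOver X) (j : W ⟶ E), w ∈ Set.range j.hom.left.left ∧ j ≫ a = j ≫ b)
    (S₀ : Submodule (fn V₀) (sectModEt M V₀)) (hS₀ : S₀.FG) (hS₀C : S₀ ≤ A.C V₀)
    (hS₀N : ∀ (D : EtOver X) [IsAffine D.obj.left.left] (a : D ⟶ V₀),
      Set.range (Points.ofPt D.obj.hom) ⊆ O → pushSub a S₀ ≤ N.N D) :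
    ∃ N' : SubOn A (O ∪ Set.range (Points.ofPt V₀.obj.hom)),
      (∀ (E : EtOver X) [IsAffine E.obj.left.left],
        Set.range (Points.ofPt E.obj.hom) ⊆ O → N'.N E = N.N E) ∧ S₀ ≤ N'.N V₀ := by
  classical
  obtain ⟨T, hT, hTcov⟩ := exists_basic_cover hO V₀ hc
  choose G hG using fun t : T => N.fg _ (hT t t.2)
  choose y n hyC hy hyN using fun (t : T) (s : G t) =>
    exists_gen_lift hM N T hT t.2 (hG t ▸ Submodule.subset_span s.2 : (s : sectModEt M (basicObj V₀ t)) ∈ N.N _)
  let Y : Set (sectModEt M V₀) := ⋃ t : T, Set.range (y t)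
  let Q₀ := Submodule.span (fn V₀) Y ⊔ S₀
  have hQfg : Q₀.FG := (Submodule.fg_span (Set.finite_iUnion fun t => Set.finite_range (y t))).sup hS₀
  have hQC : Q₀ ≤ A.C V₀ := sup_le (Submodule.span_le.2 (Set.iUnion_subset fun t => by
    rintro _ ⟨s, rfl⟩
    exact hyC t s)) hS₀C
  have hD : ∀ t : T, pushSub (basicHom V₀ t.1) Q₀ = N.N (basicObj V₀ t.1) := fun t => by
    refine le_antisymm ?_ ?_
    · rw [pushSub_sup, pushSub_span]
      refine sup_le (Submodule.span_le.2 ?_) (hS₀N _ _ (hT t t.2))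
      rintro _ ⟨_, hz, rfl⟩
      obtain ⟨t', s, rfl⟩ := Set.mem_iUnion.1 hz
      exact hyN t' s t t.2
    · rw [← hG t, Submodule.span_le]
      intro s hs
      have hu := (isUnit_fnMap_basicHom V₀ t.1).pow (n t ⟨s, hs⟩)
      refine (Submodule.smul_mem_iff_of_isUnit _ hu).1 ?_
      rw [← hy t ⟨s, hs⟩]
      exact res_mem_pushSub _ (Submodule.mem_sup_left (Submodule.subset_span (Set.mem_iUnion.2 ⟨t, ⟨s, hs⟩, rfl⟩)))
  have hin : ∀ (W : EtOver X) [IsAffine W.obj.left.left] (a : W ⟶ V₀),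
      Set.range (Points.ofPt W.obj.hom) ⊆ O → pushSub a Q₀ = N.N W := fun W _ a hW => by
    obtain ⟨C, hC⟩ := exists_good_cover (E := W)
      (fun V b => ∃ t : T, ∃ c : V ⟶ basicObj V₀ t.1, c ≫ basicHom V₀ t.1 = b ≫ a)
      (fun g b ⟨t, c, hc⟩ => ⟨t, g ≫ c, by rw [Category.assoc, hc, Category.assoc]⟩) fun w => by
      obtain ⟨t, ht, hw⟩ := hTcov (a.hom.left.left w) (ofPt_comp_left a w ▸ hW ⟨w, rfl⟩)
      exact ⟨_, EtOver.pullbackFst a (basicHom V₀ t), ⟨⟨t, ht⟩, EtOver.pullbackSnd _ _,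
        (EtOver.pullback_condition a (basicHom V₀ t)).symm⟩, exists_pullbackFst_preimage _ _ hw⟩
    refine eq_of_local hM C fun k => ?_
    obtain ⟨t, c, hc⟩ := hC k
    rw [pushSub_comp, ← hc, ← pushSub_comp, hD t, N.map_eq c (hT t t.2), N.map_eq (C.g k) hW]
  have heq : ∀ (E : EtOver X) [IsAffine E.obj.left.left] (a b : E ⟶ V₀), pushSub a Q₀ = pushSub b Q₀ :=
    fun E _ a b => by
    obtain ⟨C, hC⟩ := exists_good_cover (E := E)
      (fun V j => Set.range (Points.ofPt V.obj.hom) ⊆ O ∨ j ≫ a = j ≫ b)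
      (fun g j h => h.imp (range_subset_of_hom g) fun e => by rw [Category.assoc, e, Category.assoc]) fun w => by
      by_cases hw : Points.ofPt E.obj.hom w ∈ O
      · obtain ⟨O₁, hO₁, hwO, hle⟩ := exists_isAffineOpen_mem_and_subset
          (X := E.obj.left.left) (U := ⟨_, hO.preimage (Points.continuous_ofPt E.obj.hom)⟩) hw
        let O' : E.obj.left.left.Etale := MorphismProperty.Over.mk ⊤ O₁.ι (show Etale _ from inferInstance)
        let W := (EtOver.ofChart E.obj.hom E.property).obj O'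
        let j : W ⟶ E := EtOver.homMk (EtOver.homOfEtale O') rfl
        refine ⟨W, j, Or.inl ?_, ⟨⟨w, hwO⟩, rfl⟩⟩
        rintro _ ⟨z, rfl⟩
        rw [← ofPt_comp_left j z]
        exact hle z.2
      · obtain ⟨W, j, hj, e⟩ := hloc a b w hw
        exact ⟨W, j, Or.inr e, hj⟩
    refine eq_of_local hM C fun k => ?_
    rw [pushSub_comp, pushSub_comp]
    rcases hC k with h | h
    · rw [hin _ _ h, hin _ _ h]
    · rw [h]
  let N₁ : ∀ E : EtOver X, Submodule (fn E) (sectModEt M E) := fun E =>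
    if Set.range (Points.ofPt E.obj.hom) ⊆ O then N.N E
    else if h : Nonempty (E ⟶ V₀) then pushSub h.some Q₀ else ⊥
  have hN₁O : ∀ (E : EtOver X), Set.range (Points.ofPt E.obj.hom) ⊆ O → N₁ E = N.N E := fun E h => if_pos h
  have hN₁V : ∀ (E : EtOver X) [IsAffine E.obj.left.left] (a : E ⟶ V₀), N₁ E = pushSub a Q₀ := fun E _ a => by
    by_cases h : Set.range (Points.ofPt E.obj.hom) ⊆ O
    · rw [hN₁O E h, hin E a h]
    · simp only [N₁, if_neg h, dif_pos (Nonempty.intro a)]
      exact heq E _ a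
  let Good : EtOver X → Prop := fun E => Set.range (Points.ofPt E.obj.hom) ⊆ O ∨ Nonempty (E ⟶ V₀)
  have hcov : ∀ (E : EtOver X) [IsAffine E.obj.left.left],
      Set.range (Points.ofPt E.obj.hom) ⊆ O ∪ Set.range (Points.ofPt V₀.obj.hom) → ∀ x : E.obj.left.left,
      ∃ (V : EtOver X) (b : V ⟶ E), Good V ∧ x ∈ Set.range b.hom.left.left := fun E _ hE x => by
    by_cases hx : Points.ofPt E.obj.hom x ∈ O
    · obtain ⟨O₁, hO₁, hwO, hle⟩ := exists_isAffineOpen_mem_and_subset
        (X := E.obj.left.left) (U := ⟨_, hO.preimage (Points.continuous_ofPt E.obj.hom)⟩) hx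
      let O' : E.obj.left.left.Etale := MorphismProperty.Over.mk ⊤ O₁.ι (show Etale _ from inferInstance)
      let j : (EtOver.ofChart E.obj.hom E.property).obj O' ⟶ E := EtOver.homMk (EtOver.homOfEtale O') rfl
      refine ⟨_, j, Or.inl ?_, ⟨⟨x, hwO⟩, rfl⟩⟩
      rintro _ ⟨z, rfl⟩
      rw [← ofPt_comp_left j z]
      exact hle z.2
    · obtain ⟨v, hv⟩ := (hE ⟨x, rfl⟩).resolve_left hx
      obtain ⟨W, hW, a, b, w, ha, -⟩ := exists_common_chart hv.symm
      exact ⟨W, a, Or.inr ⟨b⟩, w, ha⟩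
  obtain ⟨N', hN'⟩ := exists_extend (A := A) hM (O' := O ∪ Set.range (Points.ofPt V₀.obj.hom)) Good
    (fun g h => h.imp (range_subset_of_hom g) fun ⟨a⟩ => ⟨g ≫ a⟩) hcov N₁
    (fun {E V} _ _ g h => by
      rcases h with h | ⟨⟨a⟩⟩
      · rw [hN₁O E h, hN₁O V (range_subset_of_hom g h), N.map_eq g h]
      · rw [hN₁V E a, hN₁V V (g ≫ a), pushSub_comp])
    (fun E _ h => by
      rcases h with h | ⟨⟨a⟩⟩
      · exact hN₁O E h ▸ N.fg E h
      · exact hN₁V E a ▸ pushSub_fg a hQfg)
    (fun E _ h => by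
      rcases h with h | ⟨⟨a⟩⟩
      · exact hN₁O E h ▸ N.le E h
      · rw [hN₁V E a, pushSub_le_iff]
        exact fun s hs => A.res_mem a s (hQC hs))
  refine ⟨N', fun E _ hE => (hN' E (hE.trans Set.subset_union_left) (Or.inl hE)).trans (hN₁O E hE), ?_⟩
  rw [hN' V₀ Set.subset_union_right (Or.inr ⟨𝟙 _⟩), hN₁V V₀ (𝟙 _), pushSub_id]
  exact le_sup_right

end Groth.Agent.Lib.EtMod.SubFam
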