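import Groth.Agent.Lib.EtMod.SubFam.Apps

/-!
# Extending submodules of finite type from a quasi-compact open subspace
-/

universe u

set_option backward.isDefEq.respectTransparency false
set_option linter.style.haveILetI false

open CategoryTheory CategoryTheory.Limits AlgebraicGeometry Opposite AlgSp

namespace Groth.Agent.Lib.EtMod.SubFam

variable {S : Scheme.{u}} {X U : Sp S} {j : U ⟶ X}

/-- An affine object inside an open subspace comes from that subspace. -/
theorem exists_lift_obj (hj : RepWith @IsOpenImmersion j) (he : IsEtaleMor j) (E : EtOver X)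
    [IsAffine E.obj.left.left] (hE : Set.range (Points.ofPt E.obj.hom) ⊆ Set.range (Points.map j)) :
    ∃ (E' : EtOver U) (_ : IsAffine E'.obj.left.left), Nonempty (E ⟶ (EtOver.postcomp j he).obj E') := by
  haveI := Groth.Agent.H8.EDSInduction.mono_openImm hj
  obtain ⟨l, hl⟩ := (Groth.Agent.Lib.AlgSpace.exists_lift_iff_range_subset hj E.obj.hom).2 (by
    rintro _ ⟨z, rfl⟩
    refine hE ⟨Points.toScheme E.obj.left z, ?_⟩
    rw [Points.ofPt_eq_map_ofScheme, Points.ofScheme_toScheme])
  have hlE : RepWith @Etale l := Groth.Agent.H8.EDSMain.repWith_of_comp_mono l j hl E.property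
  exact ⟨EtOver.mk l hlE, ‹_›, ⟨EtOver.homMk (E' := (EtOver.postcomp j he).obj (EtOver.mk l hlE)) (𝟙 _) (by
    rw [CategoryTheory.Functor.map_id, Category.id_comp]; exact hl)⟩⟩

variable (hj : RepWith @IsOpenImmersion j) (he : IsEtaleMor j) {M : ModEt X} {G : ModEt U}
  (a : G ⟶ (restrModEt he).obj M)

/-- The image on an object of the open subspace. -/
noncomputable def rangeSub (E' : EtOver U) :
    Submodule (fn ((EtOver.postcomp j he).obj E')) (sectModEt M ((EtOver.postcomp j he).obj E')) :=
  (show Submodule (fn E') (sectModEt ((restrModEt he).obj M) E') from LinearMap.range (secMap a E'))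

theorem push_rangeSub (hG : IsCart G)
    (hfin : ∀ (E : EtOver U) [IsAffine E.obj.left.left], Module.Finite (fn E) (sectModEt G E))
    {E' E'' : EtOver U} [IsAffine E'.obj.left.left] [IsAffine E''.obj.left.left] (g : E'' ⟶ E') :
    pushSub ((EtOver.postcomp j he).map g) (rangeSub he a E') = rangeSub he a E'' :=
  (ofMono hG a hfin).map_eq g (Set.subset_univ _)

include hj in
theorem exists_subOn_range (hG : IsCart G)
    (hfin : ∀ (E : EtOver U) [IsAffine E.obj.left.left], Module.Finite (fn E) (sectModEt G E)) :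
    ∃ N : SubOn (Amb.top M) (Set.range (Points.map j)), ∀ (E' : EtOver U) [IsAffine E'.obj.left.left],
      N.N ((EtOver.postcomp j he).obj E') = rangeSub he a E' := by
  classical
  haveI := Groth.Agent.H8.EDSInduction.mono_openImm hj
  have hpick : ∀ E : EtOver X,
      IsAffine E.obj.left.left ∧ Set.range (Points.ofPt E.obj.hom) ⊆ Set.range (Points.map j) →
      ∃ (E₁ : EtOver U) (_ : IsAffine E₁.obj.left.left), Nonempty (E ⟶ (EtOver.postcomp j he).obj E₁) :=
    fun E h => haveI := h.1; exists_lift_obj hj he E h.2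
  choose E₁ hE₁ hk₁ using hpick
  let N : ∀ E : EtOver X, Submodule (fn E) (sectModEt M E) := fun E =>
    if h : IsAffine E.obj.left.left ∧ Set.range (Points.ofPt E.obj.hom) ⊆ Set.range (Points.map j) then
      haveI := h.1
      haveI := hE₁ E h
      pushSub (hk₁ E h).some (rangeSub he a (E₁ E h))
    else ⊥
  have hN : ∀ (E : EtOver X) [IsAffine E.obj.left.left] (E' : EtOver U) [IsAffine E'.obj.left.left]
      (k : E ⟶ (EtOver.postcomp j he).obj E'), N E = pushSub k (rangeSub he a E') := by
    intro E _ E' _ k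
    have hsub : Set.range (Points.ofPt E.obj.hom) ⊆ Set.range (Points.map j) := by
      rintro _ ⟨w, rfl⟩
      rw [← ofPt_comp_left k w]
      exact ⟨Points.ofPt E'.obj.hom (k.hom.left.left w), Points.map_ofPt _ _ _⟩
    have h : IsAffine E.obj.left.left ∧ Set.range (Points.ofPt E.obj.hom) ⊆ Set.range (Points.map j) :=
      ⟨inferInstance, hsub⟩
    simp only [N, dif_pos h]
    haveI := hE₁ E h
    generalize (hk₁ E h).some = k₁
    let P : EtOver U := EtOver.mk ((yon S).map k₁.hom.left ≫ (E₁ E h).obj.hom)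
      (Groth.Agent.H8.EDSMain.repWith_of_comp_mono _ j
        ((Category.assoc _ _ _).trans (EtOver.w k₁)) E.property)
    haveI : IsAffine P.obj.left.left := ‹IsAffine E.obj.left.left›
    let a₁ : P ⟶ E₁ E h := EtOver.homMk (E := P) k₁.hom.left rfl
    let a₂ : P ⟶ E' := EtOver.homMk (E := P) k.hom.left (by
      change (yon S).map k.hom.left ≫ E'.obj.hom = (yon S).map k₁.hom.left ≫ (E₁ E h).obj.hom
      refine (cancel_mono j).1 ?_
      rw [Category.assoc, Category.assoc]
      exact (EtOver.w k).trans (EtOver.w k₁).symm)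
    let c : E ⟶ (EtOver.postcomp j he).obj P := EtOver.homMk (E' := (EtOver.postcomp j he).obj P) (𝟙 _) (by
      rw [CategoryTheory.Functor.map_id, Category.id_comp]
      exact (Category.assoc _ _ _).trans (EtOver.w k₁))
    rw [show k = c ≫ (EtOver.postcomp j he).map a₂ from EtOver.hom_ext _ _ (Category.id_comp _).symm,
      show k₁ = c ≫ (EtOver.postcomp j he).map a₁ from EtOver.hom_ext _ _ (Category.id_comp _).symm,
      ← pushSub_comp, ← pushSub_comp, push_rangeSub he a hG hfin, push_rangeSub he a hG hfin]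
  refine ⟨⟨N, fun {E V} _ _ g hE => ?_, fun E _ hE => ?_, fun _ _ _ => le_top⟩, fun E' _ => ?_⟩
  · obtain ⟨E', hE', ⟨k⟩⟩ := exists_lift_obj hj he E hE
    rw [hN E E' k, hN V E' (g ≫ k), pushSub_comp]
  · obtain ⟨E', hE', ⟨k⟩⟩ := exists_lift_obj hj he E hE
    rw [hN E E' k]
    haveI := hfin E'
    refine pushSub_fg k ?_
    exact (show (LinearMap.range (secMap a E')).FG from
      (Submodule.map_top (secMap a E')) ▸ Submodule.FG.map (secMap a E') Module.Finite.fg_top)
  · haveI : IsAffine ((EtOver.postcomp j he).obj E').obj.left.left := ‹IsAffine E'.obj.left.left›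
    change N ((EtOver.postcomp j he).obj E') = _
    rw [hN _ E' (𝟙 _), pushSub_id]

/-- Extension of a submodule of finite type from a quasi-compact open subspace. -/
theorem exists_extending [QuasiSeparatedSpace ↥S] (X : AlgSp.Space S) (hqc : IsQuasiCompactSp X.obj)
    (hqs : IsQuasiSeparatedSp X.obj) {U : AlgSp.Space S} (j : U ⟶ X) (hj : RepWith @IsOpenImmersion j.hom)
    (he : IsEtaleMor j.hom) (hU : IsQuasiCompactSp U.obj) {M : ModEt X.obj} (hM : IsCart M) {G : ModEt U.obj}
    (a : G ⟶ (restrModEt he).obj M) [Mono a] (hG : IsCart G)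
    (hfin : ∀ (E : EtOver U.obj) [IsAffine E.obj.left.left], Module.Finite (fn E) (sectModEt G E)) :
    ∃ (G' : ModEt X.obj) (g' : G' ⟶ M), Mono g' ∧ G'.IsQuasicoherent ∧ G'.IsFiniteType ∧
      ∃ e : (restrModEt he).obj G' ≅ G, e.hom ≫ a = (restrModEt he).map g' := by
  obtain ⟨N, hN⟩ := exists_subOn_range hj he a hG hfin
  obtain ⟨N', hN'⟩ := exists_extension hqc hqs hM (Amb.top M) j hj hU N
  refine ⟨sheaf N', incl N', SubSheaf.mono_closureι _, isQuasicoherent_of_isCart (isCart_sheaf hM N'),
    isFiniteType_sheaf hM N', ?_⟩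
  have hr : ∀ (E : EtOver U.obj) [IsAffine E.obj.left.left] (x : sectModEt M ((EtOver.postcomp j.hom he).obj E)),
      x ∈ Set.range (secMap (incl N') ((EtOver.postcomp j.hom he).obj E)) ↔ x ∈ rangeSub he a E := fun E hE x => by
    haveI : IsAffine ((EtOver.postcomp j.hom he).obj E).obj.left.left := hE
    rw [range_incl hM, hN' _ (by
      rintro _ ⟨w, rfl⟩
      exact ⟨Points.ofPt E.obj.hom w, Points.map_ofPt _ _ _⟩), hN E]
  haveI : Mono ((restrModEt he).map (incl N')) := by
    haveI := preservesFiniteLimits_restr he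
    haveI : Mono (incl N') := SubSheaf.mono_closureι _
    infer_instance
  obtain ⟨t, ht⟩ := exists_factor ((restrModEt he).map (incl N')) a fun E hE x => by
    haveI : IsAffine ((EtOver.postcomp j.hom he).obj E).obj.left.left := hE
    exact (hr E _).1 ⟨x, rfl⟩
  obtain ⟨t', ht'⟩ := exists_factor a ((restrModEt he).map (incl N')) fun E hE x => by
    haveI : IsAffine ((EtOver.postcomp j.hom he).obj E).obj.left.left := hE
    exact (hr E _).2 ⟨x, rfl⟩
  exact ⟨⟨t, t', (cancel_mono ((restrModEt he).map (incl N'))).1 (by rw [Category.assoc, ht', ht, Category.id_comp]),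
    (cancel_mono a).1 (by rw [Category.assoc, ht, ht', Category.id_comp])⟩, ht⟩

/-- The statement for pullback. -/
theorem exists_extending_pull [QuasiSeparatedSpace ↥S] (X : AlgSp.Space S) (hqc : IsQuasiCompactSp X.obj)
    (hqs : IsQuasiSeparatedSp X.obj) {U : AlgSp.Space S} (j : U ⟶ X) (hj : RepWith @IsOpenImmersion j.hom)
    (hU : IsQuasiCompactSp U.obj)
    [(SheafOfModules.pushforward.{u + 1} (bcRingHom hj.1)).IsRightAdjoint]
    (F : ModEt X.obj) [F.IsQuasicoherent] (G : ModEt U.obj) (g : G ⟶ (pullModEt hj.1).obj F) [Mono g]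
    [G.IsQuasicoherent] [G.IsFiniteType] :
    ∃ (G' : ModEt X.obj) (g' : G' ⟶ F), Mono g' ∧ G'.IsQuasicoherent ∧ G'.IsFiniteType ∧
      ∃ e : (pullModEt hj.1).obj G' ≅ G, e.hom ≫ g = (pullModEt hj.1).map g' := by
  have he : IsEtaleMor j.hom := Groth.Agent.H8.EDSInduction.isEtaleMor_openImm hj
  let P := pullIsoRestr hj.1 he
  obtain ⟨G', g', h1, h2, h3, e, hcomp⟩ := exists_extending X hqc hqs j hj he hU
    (isCart_of_isQuasicoherent F) (g ≫ P.hom.app F) (isCart_of_isQuasicoherent G)
    (fun E _ => finite_of_isFiniteType (isCart_of_isQuasicoherent G) E)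
  refine ⟨G', g', h1, h2, h3, P.app G' ≪≫ e, ?_⟩
  refine (cancel_mono (P.hom.app F)).1 ?_
  rw [Iso.trans_hom, Iso.app_hom, Category.assoc, Category.assoc, hcomp]
  exact (P.hom.naturality g').symm

end Groth.Agent.Lib.EtMod.SubFam
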