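import Groth.Agent.Lib.EtMod.Coherent
import Groth.Agent.Lib.EtMod.Supported

/-!
# Submodules of sections: images along restriction, descent along coverings, basic opens
-/

universe u

set_option backward.isDefEq.respectTransparency false
set_option linter.style.haveILetI false

open CategoryTheory CategoryTheory.Limits AlgebraicGeometry Opposite AlgSp
open TensorProduct

namespace Groth.Agent.Lib.EtMod.SubFam

variable {S : Scheme.{u}} {X : Sp S} {M : ModEt X}

/-- The submodule generated by the restriction of a submodule. -/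
noncomputable def pushSub {E V : EtOver X} (g : V ⟶ E) (P : Submodule (fn E) (sectModEt M E)) :
    Submodule (fn V) (sectModEt M V) :=
  Submodule.span (fn V) (res M g '' (P : Set (sectModEt M E)))

theorem res_mem_pushSub {E V : EtOver X} (g : V ⟶ E) {P : Submodule (fn E) (sectModEt M E)}
    {s : sectModEt M E} (hs : s ∈ P) : res M g s ∈ pushSub g P :=
  Submodule.subset_span ⟨s, hs, rfl⟩

theorem pushSub_le_iff {E V : EtOver X} (g : V ⟶ E) {P : Submodule (fn E) (sectModEt M E)}
    {Q : Submodule (fn V) (sectModEt M V)} : pushSub g P ≤ Q ↔ ∀ s ∈ P, res M g s ∈ Q := by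
  rw [pushSub, Submodule.span_le]
  exact ⟨fun h s hs => h ⟨s, hs, rfl⟩, fun h => by rintro _ ⟨s, hs, rfl⟩; exact h s hs⟩

theorem pushSub_mono {E V : EtOver X} (g : V ⟶ E) {P Q : Submodule (fn E) (sectModEt M E)} (h : P ≤ Q) :
    pushSub g P ≤ pushSub g Q :=
  Submodule.span_mono (Set.image_mono h)

theorem pushSub_span {E V : EtOver X} (g : V ⟶ E) (G : Set (sectModEt M E)) :
    pushSub g (Submodule.span (fn E) G) = Submodule.span (fn V) (res M g '' G) := by
  refine le_antisymm ((pushSub_le_iff g).2 fun s hs => res_mem_span_res g hs) ?_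
  exact Submodule.span_mono (Set.image_mono Submodule.subset_span)

theorem pushSub_comp {E V W : EtOver X} (h : W ⟶ V) (g : V ⟶ E) (P : Submodule (fn E) (sectModEt M E)) :
    pushSub h (pushSub g P) = pushSub (h ≫ g) P := by
  refine (pushSub_span h _).trans ?_
  rw [Set.image_image]
  exact congrArg _ (Set.image_congr fun s _ => (res_comp_apply h g s).symm)

theorem pushSub_id {E : EtOver X} (P : Submodule (fn E) (sectModEt M E)) : pushSub (𝟙 E) P = P := by
  rw [pushSub, show res M (𝟙 E) '' (P : Set (sectModEt M E)) = P from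
    (Set.image_congr fun s _ => res_id_apply s).trans (Set.image_id' _), Submodule.span_eq]

theorem pushSub_fg {E V : EtOver X} (g : V ⟶ E) {P : Submodule (fn E) (sectModEt M E)} (h : P.FG) :
    (pushSub g P).FG := by
  obtain ⟨G, hG, rfl⟩ := Submodule.fg_def.1 h
  rw [pushSub_span]
  exact Submodule.fg_def.2 ⟨_, hG.image _, rfl⟩

theorem pushSub_sup {E V : EtOver X} (g : V ⟶ E) (P Q : Submodule (fn E) (sectModEt M E)) :
    pushSub g (P ⊔ Q) = pushSub g P ⊔ pushSub g Q := by
  refine le_antisymm ((pushSub_le_iff g).2 fun s hs => ?_)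
    (sup_le (pushSub_mono g le_sup_left) (pushSub_mono g le_sup_right))
  obtain ⟨p, hp, q, hq, rfl⟩ := Submodule.mem_sup.1 hs
  rw [map_add]
  exact Submodule.add_mem_sup (res_mem_pushSub g hp) (res_mem_pushSub g hq)

theorem le_of_local (hM : IsCart M) {E : EtOver X} [IsAffine E.obj.left.left] (C : AffCover E)
    {P Q : Submodule (fn E) (sectModEt M E)} (h : ∀ k, pushSub (C.g k) P ≤ pushSub (C.g k) Q) : P ≤ Q :=
  fun _ hs => Submodule.span_eq Q ▸ mem_span_of_local hM C fun k => h k (res_mem_pushSub _ hs)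

theorem eq_of_local (hM : IsCart M) {E : EtOver X} [IsAffine E.obj.left.left] (C : AffCover E)
    {P Q : Submodule (fn E) (sectModEt M E)} (h : ∀ k, pushSub (C.g k) P = pushSub (C.g k) Q) : P = Q :=
  le_antisymm (le_of_local hM C fun k => (h k).le) (le_of_local hM C fun k => (h k).ge)

section Descent

theorem exists_prod_sum {A B B' : Type u} [CommRing A] [CommRing B] [CommRing B'] [Algebra A B] [Algebra A B']
    {R : Type u} [CommRing R] [Algebra A R] (i : B →ₐ[A] R) (j : B' →ₐ[A] R)
    (h : Function.Surjective (Algebra.TensorProduct.productMap i j)) {p : R → Prop} (hzero : p 0)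
    (hmul : ∀ b b', p (i b * j b')) (hadd : ∀ x y, p x → p y → p (x + y)) (r : R) : p r := by
  obtain ⟨z, rfl⟩ := h r
  induction z using TensorProduct.induction_on with
  | zero => rw [map_zero]; exact hzero
  | tmul b b' => exact hmul b b'
  | add x y hx hy => rw [map_add]; exact hadd _ _ hx hy

theorem surjective_productMap {E V U : EtOver X} (g : V ⟶ E) (c : U ⟶ E) [IsAffine E.obj.left.left]
    [IsAffine V.obj.left.left] [IsAffine U.obj.left.left] :
    Function.Surjective (Algebra.TensorProduct.productMap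
      (fnHom (EtOver.pullbackFst g c) (rfl : _ = EtOver.pullbackFst g c ≫ g))
      (fnHom (EtOver.pullbackSnd g c) (EtOver.pullback_condition g c).symm)) := by
  let i := fnHom (EtOver.pullbackFst g c) (rfl : _ = EtOver.pullbackFst g c ≫ g)
  let j := fnHom (EtOver.pullbackSnd g c) (EtOver.pullback_condition g c).symm
  letI : Algebra (Fn g) (Fn (EtOver.pullbackFst g c ≫ g)) := i.toRingHom.toAlgebra
  letI : Algebra (Fn c) (Fn (EtOver.pullbackFst g c ≫ g)) := j.toRingHom.toAlgebra
  haveI : IsScalarTower (fn E) (Fn g) (Fn (EtOver.pullbackFst g c ≫ g)) :=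
    .of_algebraMap_eq fun a => (AlgHom.commutes i a).symm
  haveI : IsScalarTower (fn E) (Fn c) (Fn (EtOver.pullbackFst g c ≫ g)) :=
    .of_algebraMap_eq fun a => (AlgHom.commutes j a).symm
  haveI h : Algebra.IsPushout (fn E) (Fn g) (Fn c) (Fn (EtOver.pullbackFst g c ≫ g)) :=
    CommRingCat.isPushout_iff_isPushout.1 (isPushout_appTop_of_isPullback (isPullback_left g c))
  intro r
  induction r using h.out.inductionOn with
  | zero => exact ⟨0, map_zero _⟩
  | tmul b => exact ⟨1 ⊗ₜ b, by simp only [Algebra.TensorProduct.productMap_apply_tmul, map_one, one_mul]; rfl⟩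
  | smul b x hx =>
    obtain ⟨z, rfl⟩ := hx
    refine ⟨(b ⊗ₜ 1) * z, ?_⟩
    rw [map_mul, Algebra.TensorProduct.productMap_apply_tmul, map_one, mul_one]
    rfl
  | add x y hx hy =>
    obtain ⟨z, rfl⟩ := hx
    obtain ⟨z', rfl⟩ := hy
    exact ⟨z + z', map_add _ _ _⟩

variable {E : EtOver X} [IsAffine E.obj.left.left]

theorem smul_equiv_tmul (hM : IsCart M) {V U : EtOver X} [IsAffine V.obj.left.left]
    [IsAffine U.obj.left.left] (g : V ⟶ E) (c : U ⟶ E) (b b'' : Fn g) (b' : Fn c) (q : MSec M c) :
    (fnHom (EtOver.pullbackFst g c) (rfl : _ = EtOver.pullbackFst g c ≫ g) b *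
        fnHom (EtOver.pullbackSnd g c) (EtOver.pullback_condition g c).symm b') •
      (isBaseChange_toPSnd g c (hM (EtOver.pullbackSnd g c))).equiv (b'' ⊗ₜ q) =
      (isBaseChange_toPSnd g c (hM (EtOver.pullbackSnd g c))).equiv ((b * b'') ⊗ₜ (b' • q)) := by
  rw [IsBaseChange.equiv_tmul, IsBaseChange.equiv_tmul]
  have e : ∀ (x y z : Fn (EtOver.pullbackFst g c ≫ g)) (m : PSec M g c),
      (x * y) • (z • m) = (x * z) • (y • m) := fun x y z m => by
    rw [smul_smul, smul_smul, mul_right_comm]
  have e' : toPSnd M g c (b' • q) =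
      fnHom (EtOver.pullbackSnd g c) (EtOver.pullback_condition g c).symm b' • toPSnd M g c q :=
    mRes_smul M (EtOver.pullbackSnd g c) (EtOver.pullback_condition g c).symm b' q
  rw [pSec_smul M g c b'', pSec_smul M g c (b * b''), map_mul, e']
  exact e _ _ _ _

/-- The image of a submodule under the base change to a fibre product. -/
theorem exists_lTensor_of_mem (hM : IsCart M) {V U : EtOver X} [IsAffine V.obj.left.left]
    [IsAffine U.obj.left.left] (g : V ⟶ E) (c : U ⟶ E) (P : Submodule (Fn c) (MSec M c))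
    (y : sectModEt M (EtOver.pullbackObj g c))
    (hy : y ∈ pushSub (EtOver.pullbackSnd g c)
      (show Submodule (fn U) (sectModEt M U) from P)) :
    ∃ t : Fn g ⊗[fn E] (P.restrictScalars (fn E)),
      (isBaseChange_toPSnd g c (hM (EtOver.pullbackSnd g c))).equiv
        ((P.restrictScalars (fn E)).subtype.lTensor (Fn g) t) = (show PSec M g c from y) := by
  let hΨ := isBaseChange_toPSnd g c (hM (EtOver.pullbackSnd g c))
  let inc := (P.restrictScalars (fn E)).subtype
  let T : Set (PSec M g c) := Set.range fun t => hΨ.equiv (inc.lTensor (Fn g) t)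
  show (show PSec M g c from y) ∈ T
  have hadd : ∀ x x', x ∈ T → x' ∈ T → x + x' ∈ T := by
    rintro _ _ ⟨t, rfl⟩ ⟨t', rfl⟩
    exact ⟨t + t', by simp only [map_add]⟩
  refine Submodule.span_induction (p := fun (x : sectModEt M (EtOver.pullbackObj g c)) _ => (show PSec M g c from x) ∈ T) ?_ ?_ ?_ ?_ hy
  · rintro _ ⟨p, hp, rfl⟩
    refine ⟨(1 : Fn g) ⊗ₜ ⟨p, hp⟩, ?_⟩
    simp only [LinearMap.lTensor_tmul]
    rw [IsBaseChange.equiv_tmul, one_smul]
    rfl
  · exact ⟨0, by simp only [map_zero]⟩
  · exact fun x x' _ _ hx hx' => hadd _ _ hx hx'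
  · intro r x _ hx
    obtain ⟨t, ht⟩ := hx
    refine exists_prod_sum (fnHom (EtOver.pullbackFst g c) (rfl : _ = EtOver.pullbackFst g c ≫ g))
      (fnHom (EtOver.pullbackSnd g c) (EtOver.pullback_condition g c).symm) (surjective_productMap g c)
      (R := Fn (EtOver.pullbackFst g c ≫ g)) (p := fun r => r • (show PSec M g c from x) ∈ T) ?_ ?_ ?_ r
    · exact ⟨0, by simp only [map_zero, zero_smul]⟩
    · intro b b'
      rw [← ht]
      clear ht
      induction t using TensorProduct.induction_on with
      | zero => exact ⟨0, by simp only [map_zero, smul_zero]⟩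
      | tmul b'' q =>
        refine ⟨(b * b'') ⊗ₜ (⟨b' • (q : MSec M c), P.smul_mem b' q.2⟩ : P.restrictScalars (fn E)), ?_⟩
        simp only [LinearMap.lTensor_tmul]
        exact (smul_equiv_tmul hM g c b b'' b' (q : MSec M c)).symm
      | add t t' h h' => simp only [map_add, smul_add]; exact hadd _ _ h h'
    · intro r r' hr hr'
      rw [add_smul]
      exact hadd _ _ hr hr'

/-- Descent of finitely generated submodules along a finite covering. -/
theorem exists_descent (hM : IsCart M) (C : AffCover E)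
    (P : ∀ k, Submodule (fn (C.V k)) (sectModEt M (C.V k))) (hfg : ∀ k, (P k).FG)
    (hcomp : ∀ k l, pushSub (EtOver.pullbackFst (C.g k) (C.g l)) (P k) =
      pushSub (EtOver.pullbackSnd (C.g k) (C.g l)) (P l)) :
    ∃ Q : Submodule (fn E) (sectModEt M E), Q.FG ∧ ∀ k, pushSub (C.g k) Q = P k := by
  classical
  let Q : Submodule (fn E) (sectModEt M E) :=
    { carrier := {s | ∀ k, res M (C.g k) s ∈ P k}
      add_mem' := fun hs ht k => by rw [map_add]; exact (P k).add_mem (hs k) (ht k)
      zero_mem' := fun k => by rw [map_zero]; exact (P k).zero_mem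
      smul_mem' := fun a s hs k => by rw [res_smul]; exact (P k).smul_mem _ (hs k) }
  let P' : ∀ l, Submodule (fn E) (MSec M (C.g l)) := fun l =>
    (show Submodule (Fn (C.g l)) (MSec M (C.g l)) from P l).restrictScalars (fn E)
  let D : sectModEt M E →ₗ[fn E] ∀ l, MSec M (C.g l) ⧸ P' l :=
    LinearMap.pi fun l => (P' l).mkQ.comp (mResL M (C.g l))
  have hex : Function.Exact Q.subtype D := fun s => by
    constructor
    · intro h
      exact ⟨⟨s, fun l => (Submodule.Quotient.mk_eq_zero (P' l)).1 (congrFun h l)⟩, rfl⟩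
    · rintro ⟨q, rfl⟩
      exact funext fun l => (Submodule.Quotient.mk_eq_zero (P' l)).2 (q.2 l)
  have hle : ∀ k, P k ≤ pushSub (C.g k) Q := fun k x hx => by
    haveI := flat_fn (C.g k)
    let g := C.g k
    have hΦ : IsBaseChange (Fn g) (mResL M g) := hM g
    let z := hΦ.equiv.symm (show MSec M g from x)
    have hz : D.lTensor (Fn g) z = 0 := by
      refine (TensorProduct.piRight (fn E) (fn E) (Fn g) fun l => MSec M (C.g l) ⧸ P' l).injective ?_
      rw [map_zero]
      funext l
      have hpi : ∀ w, TensorProduct.piRight (fn E) (fn E) (Fn g) (fun l => MSec M (C.g l) ⧸ P' l)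
          (D.lTensor (Fn g) w) l = (P' l).mkQ.lTensor (Fn g) ((mResL M (C.g l)).lTensor (Fn g) w) := fun w => by
        induction w using TensorProduct.induction_on with
        | zero => simp
        | tmul b n => simp [D]
        | add a b ha hb => simp only [map_add, Pi.add_apply, ha, hb]
      rw [hpi]
      let hΨ := isBaseChange_toPSnd g (C.g l) (hM (EtOver.pullbackSnd g (C.g l)))
      have key : ∀ w, hΨ.equiv ((mResL M (C.g l)).lTensor (Fn g) w) = toPFst M g (C.g l) (hΦ.equiv w) := fun w => by
        induction w using TensorProduct.induction_on with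
        | zero => simp only [map_zero]
        | tmul b n =>
          rw [LinearMap.lTensor_tmul, IsBaseChange.equiv_tmul, IsBaseChange.equiv_tmul, map_smul]
          exact congrArg _ (res_res_eq _ _ _ _ (EtOver.pullback_condition g (C.g l)).symm n)
        | add a b ha hb => simp only [map_add, ha, hb]
      obtain ⟨t, ht⟩ := exists_lTensor_of_mem hM g (C.g l) (show Submodule (Fn (C.g l)) (MSec M (C.g l)) from P l)
        (res M (EtOver.pullbackFst g (C.g l)) x) ((hcomp k l).le (res_mem_pushSub _ hx))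
      have hw : (mResL M (C.g l)).lTensor (Fn g) z = (P' l).subtype.lTensor (Fn g) t :=
        hΨ.equiv.injective (((key z).trans (congrArg (toPFst M g (C.g l)) (hΦ.equiv.apply_symm_apply _))).trans ht.symm)
      rw [hw, ← LinearMap.comp_apply, ← LinearMap.lTensor_comp,
        show (P' l).mkQ.comp (P' l).subtype = 0 by ext; simp, LinearMap.lTensor_zero]
      rfl
    obtain ⟨y, hy⟩ := (Module.Flat.lTensor_exact (Fn g) hex z).1 hz
    have hmem : ∀ y, (hΦ.equiv (Q.subtype.lTensor (Fn g) y) : sectModEt M (C.V k)) ∈ pushSub (C.g k) Q := fun y => by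
      induction y using TensorProduct.induction_on with
      | zero => simp only [map_zero]; exact Submodule.zero_mem _
      | tmul b q =>
        rw [LinearMap.lTensor_tmul, IsBaseChange.equiv_tmul]
        exact Submodule.smul_mem (pushSub (C.g k) Q) (show fn (C.V k) from b) (res_mem_pushSub _ q.2)
      | add a b ha hb => simp only [map_add]; exact Submodule.add_mem _ ha hb
    have := hmem y
    rwa [hy, LinearEquiv.apply_symm_apply] at this
  have heq : ∀ k, pushSub (C.g k) Q = P k :=
    fun k => le_antisymm ((pushSub_le_iff _).2 fun s hs => hs k) (hle k)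
  choose G hG using fun k => hfg k
  have h : ∀ (k) (x : G k), ∃ G' : Finset (sectModEt M E), (G' : Set (sectModEt M E)) ⊆ Q ∧
      (x : sectModEt M (C.V k)) ∈ Submodule.span (fn (C.V k)) (res M (C.g k) '' (G' : Set (sectModEt M E))) :=
    fun k x => by
    obtain ⟨F, hF, hx⟩ := Submodule.mem_span_finite_of_mem_span
      (hle k (hG k ▸ Submodule.subset_span x.2) :
        (x : sectModEt M (C.V k)) ∈ Submodule.span _ (res M (C.g k) '' (Q : Set (sectModEt M E))))
    choose p hp hp' using fun y : F => hF y.2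
    refine ⟨Finset.univ.image p, fun _ hm => ?_, Submodule.span_mono (fun y hy => ?_) hx⟩
    · obtain ⟨y, -, rfl⟩ := Finset.mem_image.1 hm
      exact hp y
    · exact ⟨p ⟨y, hy⟩, by simp, hp' ⟨y, hy⟩⟩
  choose G' hG' hG'' using h
  let GG : Set (sectModEt M E) := ⋃ (k) (x : G k), (G' k x : Set (sectModEt M E))
  refine ⟨Q, Submodule.fg_def.2 ⟨GG, Set.finite_iUnion fun k => Set.finite_iUnion fun x => (G' k x).finite_toSet, ?_⟩, heq⟩
  refine le_antisymm (Submodule.span_le.2 (Set.iUnion₂_subset hG')) (le_of_local hM C fun k => ?_)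
  rw [heq, ← hG k, Submodule.span_le, pushSub_span]
  intro x hx
  exact Submodule.span_mono (Set.image_mono
    (Set.subset_iUnion₂ (s := fun k (x : G k) => (G' k x : Set (sectModEt M E))) k ⟨x, hx⟩)) (hG'' k ⟨x, hx⟩)

end Descent

section Basic

variable (E : EtOver X) [IsAffine E.obj.left.left] (t : fn E)

/-- A basic open of an affine object. -/
noncomputable def basicObj : EtOver X :=
  (EtOver.ofChart E.obj.hom E.property).obj
    (MorphismProperty.Over.mk ⊤ (E.obj.left.left.basicOpen t).ι (show Etale _ from inferInstance))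

/-- Its inclusion. -/
noncomputable def basicHom : basicObj E t ⟶ E :=
  EtOver.homMk (EtOver.homOfEtale _) rfl

instance : IsAffine (basicObj E t).obj.left.left :=
  (isAffineOpen_top E.obj.left.left).basicOpen t

omit [IsAffine E.obj.left.left] in
theorem mem_range_basicHom (v : E.obj.left.left) :
    v ∈ Set.range (basicHom E t).hom.left.left ↔ t ∉ primeAtPt E.obj.left.left v := by
  have h : v ∈ E.obj.left.left.basicOpen t ↔ t ∉ primeAtPt E.obj.left.left v := by
    rw [Scheme.mem_basicOpen _ _ _ (Set.mem_univ v : v ∈ (⊤ : E.obj.left.left.Opens))]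
    exact ⟨fun hu hm => hm hu, fun hu => by by_contra hn; exact hu hn⟩
  rw [← h]
  exact ⟨fun ⟨w, hw⟩ => hw ▸ w.2, fun hv => ⟨⟨v, hv⟩, rfl⟩⟩

theorem exists_fn_mul_eq (b : fn (basicObj E t)) :
    ∃ (n : ℕ) (a : fn E), fnMap (basicHom E t) t ^ n * b = fnMap (basicHom E t) a := by
  letI : Algebra (fn E) (fn (basicObj E t)) := (fnMap (basicHom E t)).toAlgebra
  haveI : IsLocalization.Away t (fn (basicObj E t)) :=
    (isAffineOpen_top E.obj.left.left).isLocalization_of_eq_basicOpen t _
      (TopologicalSpace.Opens.isOpenEmbedding_obj_top (E.obj.left.left.basicOpen t))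
  obtain ⟨⟨a, ⟨_, n, rfl⟩⟩, h⟩ := IsLocalization.surj (Submonoid.powers t) b
  refine ⟨n, a, ?_⟩
  rw [mul_comm, ← map_pow]
  exact h

theorem exists_pow_smul_mem (P : Submodule (fn E) (sectModEt M E))
    {w : sectModEt M (basicObj E t)} (hw : w ∈ pushSub (basicHom E t) P) :
    ∃ n : ℕ, ∃ p ∈ P, fnMap (basicHom E t) t ^ n • w = res M (basicHom E t) p := by
  induction hw using Submodule.span_induction with
  | mem x hx =>
    obtain ⟨p, hp, rfl⟩ := hx
    exact ⟨0, p, hp, by rw [pow_zero, one_smul]⟩
  | zero => exact ⟨0, 0, P.zero_mem, by rw [map_zero, smul_zero]⟩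
  | add x y _ _ hx hy =>
    obtain ⟨n, p, hp, hx⟩ := hx
    obtain ⟨m, q, hq, hy⟩ := hy
    refine ⟨n + m, t ^ m • p + t ^ n • q, P.add_mem (P.smul_mem _ hp) (P.smul_mem _ hq), ?_⟩
    rw [map_add, res_smul, res_smul, map_pow, map_pow, ← hx, ← hy, smul_smul, smul_smul, smul_add,
      ← pow_add, ← pow_add, add_comm m n]
  | smul b x _ hx =>
    obtain ⟨n, p, hp, hx⟩ := hx
    obtain ⟨m, a, ha⟩ := exists_fn_mul_eq E t b
    refine ⟨m + n, a • p, P.smul_mem _ hp, ?_⟩
    rw [res_smul, ← hx, ← ha, smul_smul, smul_smul]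
    congr 1
    ring

theorem exists_lift (hM : IsCart M) (w : sectModEt M (basicObj E t)) :
    ∃ n : ℕ, ∃ p, fnMap (basicHom E t) t ^ n • w = res M (basicHom E t) p := by
  have hw : w ∈ pushSub (basicHom E t) (⊤ : Submodule (fn E) (sectModEt M E)) := by
    rw [pushSub, Submodule.top_coe, Set.image_univ, span_res_eq_top hM]
    trivial
  obtain ⟨n, p, -, h⟩ := exists_pow_smul_mem E t ⊤ hw
  exact ⟨n, p, h⟩

theorem exists_pow_smul_eq_zero (hM : IsCart M) {s : sectModEt M E} (h : res M (basicHom E t) s = 0) :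
    ∃ n : ℕ, t ^ n • s = 0 := by
  have hle : Ideal.span {t} ≤ (annSect s).radical := by
    refine le_radical_of_zeroLocus_subset fun v hv => ?_
    rw [mem_zeroLocus_iff_le] at hv ⊢
    rw [Ideal.span_le, Set.singleton_subset_iff]
    by_contra ht
    obtain ⟨w, hw⟩ := (mem_range_basicHom E t v).2 ht
    exact annSect_not_le hM (basicHom E t) w h (hw.symm ▸ hv)
  obtain ⟨n, hn⟩ := hle (Ideal.subset_span rfl)
  exact ⟨n, hn⟩

/-- A section in a submodule over a basic open lies in it after multiplying by a power. -/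
theorem exists_pow_smul_mem_of_res (hM : IsCart M) (P : Submodule (fn E) (sectModEt M E))
    {y : sectModEt M E} (hy : res M (basicHom E t) y ∈ pushSub (basicHom E t) P) :
    ∃ n : ℕ, t ^ n • y ∈ P := by
  obtain ⟨n, p, hp, h⟩ := exists_pow_smul_mem E t P hy
  obtain ⟨m, hm⟩ := exists_pow_smul_eq_zero E t hM (s := t ^ n • y - p) (by
    rw [map_sub, res_smul, map_pow, h, sub_self])
  refine ⟨m + n, ?_⟩
  rw [smul_sub, sub_eq_zero, smul_smul, ← pow_add] at hm
  rw [hm]
  exact P.smul_mem _ hp

theorem isUnit_fnMap_basicHom : IsUnit (fnMap (basicHom E t) t) := by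
  by_contra hnu
  obtain ⟨m, hm, hmT⟩ := exists_max_ideal_of_mem_nonunits hnu
  haveI := hm.isPrime
  obtain ⟨v, hv⟩ := exists_primeAtPt_eq m
  refine (mem_range_basicHom E t _).1 ⟨v, rfl⟩ ?_
  rw [← primeAtPt_comap, hv]
  exact hmT

end Basic

end Groth.Agent.Lib.EtMod.SubFam
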