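import Groth.Agent.Lib.EtMod.SubFam.Sheaf
import Groth.Agent.Lib.EtMod.Torsion
import Groth.Agent.Lib.EtMod.Largest
import Groth.Agent.Lib.EtMod.ClosedMain
import Groth.Agent.Lib.EtMod.ClosedFF

/-!
# The right adjoint of the direct image along a closed immersion
-/

universe u

set_option backward.isDefEq.respectTransparency false
set_option linter.style.haveILetI false

open CategoryTheory CategoryTheory.Limits AlgebraicGeometry Opposite AlgSp

namespace Groth.Agent.Lib.EtMod

variable {S : Scheme.{u}}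

/-- The largest quasi-coherent submodule killed by the ideal is a direct image. -/
theorem exists_push_terminal {Z X : AlgSp.Space S} {i : Z ⟶ X} (hi : RepWith @IsClosedImmersion i.hom)
    (F : ModEt X.obj) (hF : F.IsQuasicoherent) :
    ∃ (G : ModEt Z.obj) (ε : (pushModEt hi.1).obj G ⟶ F), Mono ε ∧ G.IsQuasicoherent ∧
      ∀ (H : ModEt Z.obj) (φ : (pushModEt hi.1).obj H ⟶ F), IsCart ((pushModEt hi.1).obj H) →
        ∃ ψ : (pushModEt hi.1).obj H ⟶ (pushModEt hi.1).obj G, ψ ≫ ε = φ := by
  let I := idealOfRep hi.1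
  let ι := SubSheaf.closureι (annSub I F)
  haveI : Mono ι := SubSheaf.mono_closureι _
  have hF' : IsCart F := isCart_of_isQuasicoherent F
  obtain ⟨G', κ, hκ, hc, huniv⟩ := exists_largest hF' ι
  haveI := hκ
  have hkill : ∀ (W : EtOver X.obj) (hW : IsAffine W.obj.left.left) (s : sectModEt G' W),
      I.ideal W hW ≤ annSect s := fun W hW s a ha => by
    haveI := hW
    refine (mem_annSect_iff s a).2 (show a • s = 0 from SubFam.injective_secMap_of_mono (κ ≫ ι) W ?_)
    rw [map_zero, map_smul]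
    have h := mem_annSub_of_closure (I := I) (secMap κ W s).2 W hW (𝟙 W) a ha
    rw [res_id_apply] at h
    rw [secMap_comp]
    exact h
  obtain ⟨G, ⟨e⟩⟩ := exists_push_iso hi Z.property X.property G' (kill_of_le_annSect hi hi.1 hkill)
  refine ⟨G, e.hom ≫ κ ≫ ι, inferInstance,
    isQuasicoherent_of_push_iso hi X.property e (isQuasicoherent_of_isCart hc), fun H φ hH => ?_⟩
  obtain ⟨t, ht⟩ := SubFam.exists_factor φ ι fun E hE x => by
    refine ⟨⟨secMap φ E x, SubSheaf.le_closure (annSub I F) (op E) fun W hW k a ha => ?_⟩, rfl⟩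
    haveI := hW
    change a • res F k (secMap φ E x) = 0
    rw [← secMap_res, ← map_smul]
    exact (congrArg (secMap φ W) ((mem_annSect_iff _ a).1 (le_annSect_push hi hi.1 H W hW _ ha))).trans (map_zero _)
  obtain ⟨ψ, hψ⟩ := huniv _ t hH
  refine ⟨ψ ≫ e.inv, ?_⟩
  rw [Category.assoc, Iso.inv_hom_id_assoc, reassoc_of% hψ, ht]

/-- The direct image along a closed immersion of quasi-coherent modules is a left adjoint. -/
theorem isLeftAdjoint_push_qcoh {Z X : AlgSp.Space S} {i : Z ⟶ X} (hi : RepWith @IsClosedImmersion i.hom)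
    (hq : ∀ G : AlgSp.ModEt Z.obj, G.IsQuasicoherent → ((AlgSp.pushModEt hi.1).obj G).IsQuasicoherent) :
    ((SheafOfModules.isQuasicoherent (AlgSp.OEtRing X.obj)).lift
        ((SheafOfModules.isQuasicoherent (AlgSp.OEtRing Z.obj)).ι ⋙ AlgSp.pushModEt hi.1)
        (fun G => hq G.obj G.property)).IsLeftAdjoint := by
  haveI := pushModEt_full hi X.property
  haveI := pushModEt_faithful hi X.property
  refine Functor.isLeftAdjoint_of_rightAdjointObjIsDefined_eq_top (top_unique fun F _ => ?_)
  obtain ⟨G, ε, hε, hG, huniv⟩ := exists_push_terminal hi F.obj F.property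
  haveI := hε
  rw [Functor.rightAdjointObjIsDefined_iff]
  let Φ : ∀ H : (SheafOfModules.isQuasicoherent (AlgSp.OEtRing Z.obj)).FullSubcategory,
      (H ⟶ ⟨G, hG⟩) → (((SheafOfModules.isQuasicoherent (AlgSp.OEtRing X.obj)).lift
        ((SheafOfModules.isQuasicoherent (AlgSp.OEtRing Z.obj)).ι ⋙ AlgSp.pushModEt hi.1)
        (fun G => hq G.obj G.property)).obj H ⟶ F) := fun H a =>
    ObjectProperty.homMk ((pushModEt hi.1).map a.hom ≫ ε)
  have hΦ : ∀ H, Function.Bijective (Φ H) := by
    intro H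
    refine ⟨fun a b h => ?_, fun φ => ?_⟩
    · refine ObjectProperty.hom_ext _ ((pushModEt hi.1).map_injective ?_)
      exact (cancel_mono ε).1 (congrArg (fun m => m.hom) h)
    obtain ⟨ψ, hψ⟩ := huniv H.obj φ.hom (@isCart_of_isQuasicoherent _ _ _ (hq _ H.property))
    obtain ⟨c, rfl⟩ := (pushModEt hi.1).map_surjective ψ
    exact ⟨ObjectProperty.homMk c, ObjectProperty.hom_ext _ hψ⟩
  refine (Functor.RepresentableBy.isRepresentable (Y := ⟨G, hG⟩)
    { homEquiv := fun {H} => Equiv.ofBijective (Φ H) (hΦ H)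
      homEquiv_comp := fun {H H'} a b => ObjectProperty.hom_ext _ ?_ })
  exact (congrArg (· ≫ ε) ((pushModEt hi.1).map_comp a.hom b.hom)).trans (Category.assoc _ _ _)

end Groth.Agent.Lib.EtMod
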