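import Groth.Agent.Lib.EtMod.SubFam.Induct
import Groth.Agent.Lib.EtMod.EtalePull

/-!
# The submodule of a family, and the family of a submodule
-/

universe u

set_option backward.isDefEq.respectTransparency false
set_option linter.style.haveILetI false

open CategoryTheory CategoryTheory.Limits AlgebraicGeometry Opposite AlgSp
open TensorProduct

namespace Groth.Agent.Lib.EtMod.SubFam

variable {S : Scheme.{u}} {X : Sp S}

/-- Finite sections over affine objects give finite type. -/
theorem isFiniteType_of_finite {G : ModEt X} (hG : IsCart G)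
    (hfin : ∀ (E : EtOver X) [IsAffine E.obj.left.left], Module.Finite (fn E) (sectModEt G E)) :
    G.IsFiniteType := by
  have h : ∀ E : {E : EtOver X // IsAffine E.obj.left.left},
      ∃ σ : (G.over E.1).GeneratingSections, σ.IsFiniteType := fun E => by
    have := E.2
    haveI : Module.Finite (fn E.1) (SSec (G.over E.1) (𝟙 E.1)) := hfin E.1
    obtain ⟨ι, hι, σ, hσ⟩ := exists_fin_surjective (A := fn E.1) (N := SSec (G.over E.1) (𝟙 E.1))
    exact ⟨⟨ι, fun i => genAll (G.over E.1) (σ i),
      epi_genFam σ hσ fun _ _ g => (bijective_tens_of_isCart hG g).2⟩, { finite := hι }⟩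
  choose σ hσ using h
  let q : SheafOfModules.LocalGeneratorsData.{u + 1} G :=
    { I := {E : EtOver X // IsAffine E.obj.left.left}
      X := Subtype.val
      coversTop := coversTop_affine X
      generators := σ }
  haveI : q.IsFiniteType := { isFiniteType := hσ }
  constructor
  exact ⟨q, inferInstance⟩

variable {M : ModEt X} {A : Amb M}

/-- The sections lying in the family on all affine objects over their domain. -/
def pre (N : SubOn A Set.univ) : M.val.Submodule where
  obj V :=
    { carrier := {s | ∀ (W : EtOver X) [IsAffine W.obj.left.left] (k : W ⟶ V.unop), res M k s ∈ N.N W}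
      add_mem' := fun {s t} hs ht W _ k => by
        change res M k ((s : sectModEt M V.unop) + t) ∈ N.N W
        rw [map_add]
        exact (N.N W).add_mem (hs W k) (ht W k)
      zero_mem' := fun W _ k => by
        rw [show res M k (0 : sectModEt M V.unop) = 0 from map_zero _]
        exact (N.N W).zero_mem
      smul_mem' := fun r s hs W _ k => by
        let r' : fn V.unop := r.down
        let s' : sectModEt M V.unop := s
        change res M k (r' • s') ∈ N.N W
        rw [res_smul]
        exact (N.N W).smul_mem _ (hs W k) }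
  map {V V'} g := fun m hm W _ k => by
    have h := hm W (k ≫ g.unop)
    rw [res_comp_apply] at h
    exact h

/-- The submodule of a family. -/
noncomputable abbrev sheaf (N : SubOn A Set.univ) : ModEt X := SubSheaf.closureSheaf (pre N)

/-- Its inclusion. -/
noncomputable abbrev incl (N : SubOn A Set.univ) : sheaf N ⟶ M := SubSheaf.closureι (pre N)

variable (hM : IsCart M) (N : SubOn A Set.univ)

theorem injective_incl (E : EtOver X) : Function.Injective (secMap (incl N) E) :=
  fun _ _ h => Subtype.ext h

include hM

theorem range_incl (E : EtOver X) [IsAffine E.obj.left.left] (s : sectModEt M E) :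
    s ∈ Set.range (secMap (incl N) E) ↔ s ∈ N.N E := by
  constructor
  · rintro ⟨x, rfl⟩
    obtain ⟨C, hC⟩ := exists_affCover (SubSheaf.mem_closure_iff.1 x.2)
    refine mem_of_local hM C fun k => ?_
    rw [N.map_eq (C.g k) (Set.subset_univ _), ← res_id_apply (res M (C.g k) _)]
    exact hC k (C.V k) (𝟙 _)
  · exact fun hs => ⟨⟨s, SubSheaf.le_closure (pre N) (op E) fun W _ k =>
      N.map_eq k (Set.subset_univ _) ▸ res_mem_pushSub k hs⟩, rfl⟩

theorem isCart_sheaf : IsCart (sheaf N) := by
  intro E V _ _ g
  haveI := flat_fn g
  let G := sheaf N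
  let Φ : Fn g ⊗[fn E] sectModEt G E →ₗ[Fn g] MSec G g := LinearMap.liftBaseChange (Fn g) (mResL G g)
  have hM' : IsBaseChange (Fn g) (mResL M g) := hM g
  have e₁ : ∀ x, mSecMap (incl N) g (Φ x) = hM'.equiv ((secMap (incl N) E).lTensor (Fn g) x) := fun x => by
    induction x using TensorProduct.induction_on with
    | zero => simp only [map_zero]
    | tmul b p =>
      rw [LinearMap.lTensor_tmul, IsBaseChange.equiv_tmul, LinearMap.liftBaseChange_tmul, map_smul]
      exact congrArg _ (secMap_res (incl N) g p)
    | add x y hx hy => simp only [map_add, hx, hy]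
  have hinj : Function.Injective Φ := fun x y h =>
    Module.Flat.lTensor_preserves_injective_linearMap _ (injective_incl N E)
      (hM'.equiv.injective (by rw [← e₁, ← e₁, h]))
  have hsurj : Function.Surjective Φ := fun q => by
    have hmem : (mSecMap (incl N) g q : sectModEt M V) ∈ pushSub g (N.N E) :=
      (N.map_eq g (Set.subset_univ _)).symm ▸ (range_incl hM N V _).1 ⟨q, rfl⟩
    suffices h : ∀ y ∈ pushSub g (N.N E), ∃ x, (mSecMap (incl N) g (Φ x) : sectModEt M V) = y by
      obtain ⟨x, hx⟩ := h _ hmem
      exact ⟨x, injective_incl N V hx⟩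
    intro y hy
    induction hy using Submodule.span_induction with
    | mem z hz =>
      obtain ⟨p, hp, rfl⟩ := hz
      obtain ⟨p', rfl⟩ := (range_incl hM N E p).2 hp
      exact ⟨1 ⊗ₜ p', (congrArg _ ((LinearMap.liftBaseChange_tmul (Fn g) (mResL G g) 1 p').trans (one_smul _ _))).trans
        (secMap_res (incl N) g p')⟩
    | zero => exact ⟨0, by simp only [map_zero]⟩
    | add z z' _ _ hz hz' =>
      obtain ⟨x, rfl⟩ := hz
      obtain ⟨x', rfl⟩ := hz'
      exact ⟨x + x', by rw [map_add, map_add]⟩
    | smul r z _ hz =>
      obtain ⟨x, rfl⟩ := hz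
      exact ⟨(show Fn g from r) • x, by rw [map_smul, map_smul]⟩
  have key : IsBaseChange (Fn g) (mResL G g) := IsBaseChange.of_equiv (LinearEquiv.ofBijective Φ ⟨hinj, hsurj⟩) fun p =>
    (LinearMap.liftBaseChange_tmul (Fn g) (mResL G g) 1 p).trans (one_smul (Fn g) _)
  exact key

theorem finite_sheaf (E : EtOver X) [IsAffine E.obj.left.left] : Module.Finite (fn E) (sectModEt (sheaf N) E) := by
  haveI : Module.Finite (fn E) ↥(LinearMap.range (secMap (incl N) E)) := by
    have e : LinearMap.range (secMap (incl N) E) = N.N E := Submodule.ext (range_incl hM N E)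
    rw [e]
    exact Module.Finite.iff_fg.2 (N.fg E (Set.subset_univ _))
  exact Module.Finite.equiv (LinearEquiv.ofInjective _ (injective_incl N E)).symm

theorem isFiniteType_sheaf : (sheaf N).IsFiniteType :=
  isFiniteType_of_finite (isCart_sheaf hM N) (finite_sheaf hM N)

omit hM

theorem injective_secMap_of_mono {G : ModEt X} (a : G ⟶ M) [Mono a] (E : EtOver X) :
    Function.Injective (secMap a E) := by
  have : Mono a.val := (SheafOfModules.forget.{u + 1} (OEtRing X)).map_mono a
  exact PresheafOfModules.injective_of_mono a.val (op E)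

/-- A monomorphism factors through another when its image does on affine objects. -/
theorem exists_factor {G G' : ModEt X} (a : G ⟶ M) (a' : G' ⟶ M) [Mono a']
    (h : ∀ (E : EtOver X) [IsAffine E.obj.left.left] (x : sectModEt G E), secMap a E x ∈ Set.range (secMap a' E)) :
    ∃ t : G ⟶ G', t ≫ a' = a := by
  have key : a ≫ cokernel.π a' = 0 := by
    refine SheafOfModules.hom_ext (PresheafOfModules.hom_ext fun Y => ModuleCat.hom_ext (LinearMap.ext fun m => ?_))
    obtain ⟨Y⟩ := Y
    choose W j hW hj using fun v : Y.obj.left.left => exists_affine_open_obj v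
    refine eq_of_cover W j (fun v => ⟨v, hj v⟩) fun v => ?_
    have := hW v
    obtain ⟨y, hy⟩ := h (W v) (res G (j v) m)
    change res (cokernel a') (j v) (secMap (a ≫ cokernel.π a') Y m) = res (cokernel a') (j v) 0
    rw [map_zero, ← secMap_res, secMap_comp, ← hy]
    exact congrArg (fun ψ : G' ⟶ cokernel a' => secMap ψ (W v) y) (cokernel.condition a')
  exact ⟨Abelian.monoLift a' a key, Abelian.monoLift_comp a' a key⟩

/-- The submodule of a family as a family. -/
noncomputable def ofMono {G : ModEt X} (hG : IsCart G) (a : G ⟶ M)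
    (hfin : ∀ (E : EtOver X) [IsAffine E.obj.left.left], Module.Finite (fn E) (sectModEt G E)) :
    SubOn (Amb.top M) Set.univ where
  N E := LinearMap.range (secMap a E)
  map_eq {E V} _ _ g _ := by
    refine le_antisymm ((pushSub_le_iff g).2 ?_) ?_
    · rintro _ ⟨x, rfl⟩
      exact ⟨res G g x, secMap_res a g x⟩
    · rintro _ ⟨y, rfl⟩
      have hy : y ∈ Submodule.span (fn V) (Set.range (res G g)) := span_res_eq_top hG g ▸ trivial
      induction hy using Submodule.span_induction with
      | mem z hz =>
        obtain ⟨x, rfl⟩ := hz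
        rw [secMap_res]
        exact res_mem_pushSub g ⟨x, rfl⟩
      | zero => rw [map_zero]; exact Submodule.zero_mem _
      | add z z' _ _ hz hz' => rw [map_add]; exact Submodule.add_mem _ hz hz'
      | smul r z _ hz => rw [map_smul]; exact Submodule.smul_mem _ _ hz
  fg E _ _ := by
    haveI := hfin E
    exact (Submodule.map_top (secMap a E)) ▸ Submodule.FG.map (secMap a E) Module.Finite.fg_top
  le _ _ _ := le_top

end Groth.Agent.Lib.EtMod.SubFam
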